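import Cfsg.Agent.Block.KgvLin
import Cfsg.Agent.Char.CtBase
import Cfsg.Agent.Solv.PGroupBasic
import Cfsg.Agent.S4959

/-! Real vectors for nilpotent groups, and the class number of `F V` for nilpotent `F`. -/

set_option autoImplicit false

namespace Cfsg.Lib.KR

open Subgroup Module Cfsg.Lib.Solv Cfsg.Lib.Solv.HH

universe u v

variable {p : ℕ} [hp : Fact p.Prime] {F : Type u} [Group F] {V : Type v} [AddCommGroup V]
  [Module (ZMod p) V]

/-- `v` is a real vector. -/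
structure RV (ρ : F →* End (ZMod p) V) (v : V) (U : Submodule (ZMod p) V)
    (β : LinearMap.BilinForm (ZMod p) V) : Prop where
  ne : Nontrivial V → ∃ u ∈ U, u ≠ 0
  inv : ∀ h, ρ h v = v → ∀ u ∈ U, ρ h u ∈ U
  fa : ∀ h, ρ h v = v → (∀ u ∈ U, ρ h u = u) → ∀ x, ρ h x = x
  pr : ∀ h, ρ h v = v → ∀ u ∈ U, ∀ w ∈ U, β (ρ h u) (ρ h w) = β u w
  nd : ∀ u ∈ U, (∀ w ∈ U, β u w = 0) → u = 0

theorem rho_mul (ρ : F →* End (ZMod p) V) (a b : F) (x : V) : ρ a (ρ b x) = ρ (a * b) x := by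
  rw [map_mul]; rfl

theorem rho_inv_fix (ρ : F →* End (ZMod p) V) {h : F} {v : V} (e : ρ h v = v) : ρ h⁻¹ v = v := by
  conv_lhs => rw [← e, rho_mul, inv_mul_cancel, map_one]
  rfl

theorem rv_sum [Finite F] (hF : ¬ p ∣ Nat.card F) (ρ : F →* End (ZMod p) V)
    {W : Submodule (ZMod p) V} (hW : Inv ρ W) (h0 : W ≠ ⊥)
    (h1 : ∃ v U β, RV (res ρ W hW) v U β)
    (h2 : ∀ W' (hW' : Inv ρ W'), W ⊓ W' = ⊥ → ∃ v U β, RV (res ρ W' hW') v U β) :
    ∃ v U β, RV ρ v U β := by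
  obtain ⟨π, p1, p2⟩ := exists_leftInverse (fun e => hF ((ZMod.natCast_eq_zero_iff _ _).1 e))
    (res ρ W hW) ρ (h := W.subtype) W.injective_subtype (fun _ _ => rfl)
  have hK : Inv ρ (LinearMap.ker π) := fun g w hw => by
    rw [LinearMap.mem_ker] at hw ⊢
    rw [p2, hw, map_zero]
  let π' : V →ₗ[ZMod p] LinearMap.ker π := (LinearMap.id - W.subtype ∘ₗ π).codRestrict _ fun x => by
    have := p1 (π x)
    simp only [Submodule.subtype_apply] at this
    simp [this]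
  have q0 : ∀ x, (π' x : V) = x - π x := fun _ => rfl
  have q1 : ∀ w : LinearMap.ker π, π' w = w := fun w => Subtype.ext (by
    rw [q0, LinearMap.mem_ker.1 w.2]; simp)
  have q2 : ∀ g x, π' (ρ g x) = res ρ _ hK g (π' x) := fun g x => Subtype.ext (by
    rw [q0, p2, coe_res_apply, coe_res_apply, q0, map_sub])
  have q3 : ∀ w : W, π' w = 0 := fun w => Subtype.ext (by rw [q0, show π w = w from p1 w]; simp)
  have q4 : ∀ w : LinearMap.ker π, π w = 0 := fun w => w.2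
  have q5 : ∀ x y, π x = π y → π' x = π' y → x = y := fun x y e1 e2 => by
    have e3 := congrArg Subtype.val e2
    rw [q0, q0, e1] at e3
    exact sub_left_injective e3
  obtain ⟨v₁, U₁, β₁, r₁⟩ := h1
  obtain ⟨v₂, U₂, β₂, r₂⟩ := h2 _ hK (eq_bot_iff.2 fun x hx => by
    have e1 : π x = ⟨x, hx.1⟩ := p1 ⟨x, hx.1⟩
    rw [LinearMap.mem_ker.1 hx.2] at e1
    exact (congrArg Subtype.val e1).symm)
  have p1' : ∀ w : W, π w = w := p1
  have f1 : ∀ h, ρ h (v₁ + v₂ : V) = v₁ + v₂ → res ρ W hW h v₁ = v₁ := fun h e => by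
    have := p2 h (v₁ + v₂)
    rw [e, map_add, p1', q4, add_zero] at this
    exact this.symm
  have f2 : ∀ h, ρ h (v₁ + v₂ : V) = v₁ + v₂ → res ρ _ hK h v₂ = v₂ := fun h e => by
    have := q2 h (v₁ + v₂)
    rw [e, map_add, q1, q3, zero_add] at this
    exact this.symm
  have m1 : ∀ u ∈ U₁, (u : V) ∈ U₁.comap π ⊓ U₂.comap π' := fun u hu =>
    ⟨by simpa [p1'] using hu, by simp [q3]⟩
  have m2 : ∀ u ∈ U₂, (u : V) ∈ U₁.comap π ⊓ U₂.comap π' := fun u hu =>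
    ⟨by simp [q4], by simpa [q1] using hu⟩
  refine ⟨v₁ + v₂, U₁.comap π ⊓ U₂.comap π', β₁.comp π π + β₂.comp π' π', fun _ => ?_,
    fun h e u hu => ⟨?_, ?_⟩, fun h e hu x => q5 _ _ ?_ ?_, fun h e u hu w hw => ?_,
    fun u hu hw => q5 _ _ ?_ ?_⟩
  · obtain ⟨u, hu, e⟩ := r₁.ne (Submodule.nontrivial_iff_ne_bot.2 h0)
    exact ⟨u, m1 u hu, fun e1 => e (Subtype.ext e1)⟩
  · rw [SetLike.mem_coe, Submodule.mem_comap, p2]; exact r₁.inv h (f1 h e) _ hu.1
  · rw [SetLike.mem_coe, Submodule.mem_comap, q2]; exact r₂.inv h (f2 h e) _ hu.2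
  · rw [p2]; exact r₁.fa h (f1 h e) (fun u h1 => Subtype.ext (hu u (m1 u h1))) _
  · rw [q2]; exact r₂.fa h (f2 h e) (fun u h1 => Subtype.ext (hu u (m2 u h1))) _
  · simp only [LinearMap.add_apply, LinearMap.BilinForm.comp_apply, p2, q2]
    rw [r₁.pr h (f1 h e) _ hu.1 _ hw.1, r₂.pr h (f2 h e) _ hu.2 _ hw.2]
  · rw [map_zero]
    refine r₁.nd _ hu.1 fun w h1 => ?_
    simpa [p1', q3] using hw w (m1 w h1)
  · rw [map_zero]
    refine r₂.nd _ hu.2 fun w h1 => ?_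
    simpa [q1, q4] using hw w (m2 w h1)

theorem rv_ind [Finite F] (ρ : F →* End (ZMod p) V) (hirr : Irr ρ) {N : Subgroup F}
    {W : Submodule (ZMod p) V} (hW : Inv (ρ.comp N.subtype) W) (h0 : W ≠ ⊥) (π : V →ₗ[ZMod p] W)
    (p1 : ∀ w : W, π w = w) (p2 : ∀ (n : N) x, π (ρ n x) = res _ W hW n (π x))
    (p3 : ∀ g, g ∉ N → ∀ w : W, π (ρ g w) = 0)
    (h1 : ∃ v U β, RV (res _ W hW) v U β) : ∃ v U β, RV ρ v U β := by
  classical
  have := Fintype.ofFinite (F ⧸ N)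
  obtain ⟨v₁, U₁, β₁, r⟩ := h1
  obtain ⟨u₀, hu₀, u0⟩ := r.ne (Submodule.nontrivial_iff_ne_bot.2 h0)
  let q : F ⧸ N → V →ₗ[ZMod p] W := fun i => π ∘ₗ ρ i.out⁻¹
  have hq : ∀ i x, q i x = π (ρ i.out⁻¹ x) := fun _ _ => rfl
  have q1 : ∀ i (w : W), q i (ρ i.out w) = w := fun i w => by
    rw [hq, rho_mul, inv_mul_cancel, map_one]; exact p1 w
  have q2 : ∀ i j (w : W), j ≠ i → q i (ρ j.out w) = 0 := fun i j w h => by
    rw [hq, rho_mul]
    exact p3 _ (fun e => h (QuotientGroup.out_eq' j ▸ QuotientGroup.out_eq' i ▸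
      (QuotientGroup.eq.2 e).symm)) w
  have q3 : ∀ x, (∀ i, q i x = 0) → x = 0 := fun x hx => by
    have hi : Inv ρ (⨅ g, LinearMap.ker (π ∘ₗ ρ g)) := fun g w hw => by
      simp only [Submodule.mem_iInf, LinearMap.mem_ker, LinearMap.comp_apply] at hw ⊢
      exact fun a => by rw [rho_mul]; exact hw _
    rcases hirr _ hi with h | h
    · refine (Submodule.eq_bot_iff _).1 h x ((Submodule.mem_iInf _).2 fun g => ?_)
      obtain ⟨n, hn⟩ := QuotientGroup.mk_out_eq_mul N g⁻¹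
      have e : g = n * ((g⁻¹ : F) : F ⧸ N).out⁻¹ := by rw [hn]; group
      rw [LinearMap.mem_ker, LinearMap.comp_apply, e, ← rho_mul, p2, ← hq, hx, map_zero]
    · have := (Submodule.mem_iInf _).1 (h.ge (Submodule.mem_top (x := (u₀ : V)))) 1
      rw [LinearMap.mem_ker, LinearMap.comp_apply, map_one] at this
      exact (u0 ((p1 u₀).symm.trans this)).elim
  have q4 : ∀ (h : F) (i : F ⧸ N), ∃ n : N, ∀ x, q i (ρ h x) = res _ W hW n (q (h⁻¹ • i) x) := by
    intro h i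
    have e : i.out⁻¹ * (h * (h⁻¹ • i).out) ∈ N := by
      rw [← QuotientGroup.eq, QuotientGroup.out_eq', ← smul_eq_mul, MulAction.Quotient.coe_smul_out,
        smul_inv_smul]
    refine ⟨⟨_, e⟩, fun x => ?_⟩
    rw [hq, hq, ← p2, rho_mul, rho_mul]
    congr 3
    simp [mul_assoc]
  have q5 : ∀ i, q i (∑ j : F ⧸ N, ρ j.out v₁) = v₁ := fun i => by
    rw [map_sum, Finset.sum_eq_single i (fun j _ h => q2 i j _ h) (by simp), q1]
  have q6 : ∀ h, ρ h (∑ j : F ⧸ N, ρ j.out v₁) = ∑ j : F ⧸ N, ρ j.out v₁ → ∀ i, ∃ n : N,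
      res _ W hW n v₁ = v₁ ∧ ∀ x, q i (ρ h x) = res _ W hW n (q (h⁻¹ • i) x) := fun h e i => by
    obtain ⟨n, hn⟩ := q4 h i
    refine ⟨n, ?_, hn⟩
    have := hn (∑ j : F ⧸ N, ρ j.out v₁)
    rw [e, q5, q5] at this
    exact this.symm
  have m : ∀ u ∈ U₁, ∀ i : F ⧸ N, ρ i.out u ∈ ⨅ j, U₁.comap (q j) := fun u hu i =>
    (Submodule.mem_iInf _).2 fun j => by
      rw [Submodule.mem_comap]
      by_cases e : i = j
      · rw [e, q1]; exact hu
      · rw [q2 j i u e]; exact zero_mem _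
  refine ⟨∑ j : F ⧸ N, ρ j.out v₁, ⨅ j, U₁.comap (q j), ∑ i, β₁.comp (q i) (q i), fun _ => ?_,
    fun h e u hu => ?_, fun h e hu x => ?_, fun h e u hu w hw => ?_, fun u hu hw => q3 _ fun i => ?_⟩
  · refine ⟨_, m u₀ hu₀ ((1 : F) : F ⧸ N), fun e => u0 ?_⟩
    rw [← q1 ((1 : F) : F ⧸ N) u₀, e, map_zero]
  · refine (Submodule.mem_iInf _).2 fun i => ?_
    obtain ⟨n, h2, h3⟩ := q6 h e i
    rw [Submodule.mem_comap, h3]
    exact r.inv n h2 _ ((Submodule.mem_iInf _).1 hu _)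
  · refine sub_eq_zero.1 (q3 _ fun i => ?_)
    obtain ⟨n, h2, h3⟩ := q6 h e i
    have h4 : h⁻¹ • i = i := by
      by_contra h4
      have := h3 (ρ i.out u₀)
      rw [hu _ (m u₀ hu₀ i), q1, q2 _ _ _ (Ne.symm h4), map_zero] at this
      exact u0 this
    rw [h4] at h3
    rw [map_sub, h3, r.fa n h2 (fun u h5 => ?_), sub_self]
    have := h3 (ρ i.out u)
    rw [hu _ (m u h5 i), q1] at this
    exact this.symm
  · simp only [LinearMap.sum_apply, LinearMap.BilinForm.comp_apply]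
    rw [← Equiv.sum_comp (MulAction.toPerm h⁻¹) fun i => β₁ (q i u) (q i w)]
    refine Finset.sum_congr rfl fun i _ => ?_
    obtain ⟨n, h2, h3⟩ := q6 h e i
    rw [h3, h3]
    exact r.pr n h2 _ ((Submodule.mem_iInf _).1 hu _) _ ((Submodule.mem_iInf _).1 hw _)
  · refine r.nd _ ((Submodule.mem_iInf _).1 hu i) fun w h2 => ?_
    have := hw _ (m w h2 i)
    simp only [LinearMap.sum_apply, LinearMap.BilinForm.comp_apply] at this
    rwa [Finset.sum_eq_single i (fun j _ h => by rw [q2 j i w h.symm, map_zero]) (by simp),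
      q1] at this

theorem rv_field [Finite V] [Nontrivial V] (ρ : F →* End (ZMod p) V) {A : Subgroup F}
    [hA : A.Normal] [IsMulCommutative A] (hc : centralizer (A : Set F) = A)
    (hs : ∀ a ∈ A, ∀ x, ρ a x = x → x ≠ 0 → a = 1) : ∃ v U β, RV ρ v U β := by
  obtain ⟨M, ⟨hM, M0⟩, hmin⟩ := WellFounded.has_min (wellFounded_lt (α := Submodule (ZMod p) V))
    {M | (∀ a ∈ A, ∀ x ∈ M, ρ a x ∈ M) ∧ M ≠ ⊥} ⟨⊤, fun _ _ _ _ => trivial, top_ne_bot⟩
  have hmin' : ∀ M' ≤ M, (∀ a ∈ A, ∀ x ∈ M', ρ a x ∈ M') → M' ≠ ⊥ → M' = M :=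
    fun M' h1 h2 h3 => by
      by_contra h4
      exact hmin M' ⟨h2, h3⟩ (lt_of_le_of_ne h1 h4)
  obtain ⟨v, hv, v0⟩ := (Submodule.ne_bot_iff M).1 M0
  have hfix : ∀ h, ρ h v = v → ∀ x ∈ M, ρ h x ∈ M := fun h e x hx => by
    have := hmin' (M ⊓ M.comap (ρ h)) inf_le_left (fun a ha y hy => ⟨hM a ha y hy.1, by
      have := hM _ (hA.conj_mem a ha h) _ hy.2
      rw [rho_mul, inv_mul_cancel_right, ← rho_mul] at this
      exact this⟩) ((Submodule.ne_bot_iff _).2 ⟨v, ⟨hv, by simpa [e] using hv⟩, v0⟩)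
    exact (this.ge hx).2
  let T : Subgroup F :=
    { carrier := {g | (∀ x ∈ M, ρ g x ∈ M) ∧ ∀ x ∈ M, ρ g⁻¹ x ∈ M}
      one_mem' := ⟨by simp, by simp⟩
      mul_mem' := fun {a b} ha hb => ⟨fun x hx => by rw [← rho_mul]; exact ha.1 _ (hb.1 x hx),
        fun x hx => by rw [mul_inv_rev, ← rho_mul]; exact hb.2 _ (ha.2 x hx)⟩
      inv_mem' := fun {a} ha => ⟨ha.2, by rw [inv_inv]; exact ha.1⟩ }
  have hT : Inv (ρ.comp T.subtype) M := fun g => g.2.1
  have : Nontrivial M := Submodule.nontrivial_iff_ne_bot.2 M0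
  obtain ⟨K, _, _, e, -, -, h3⟩ := Perm.exists_semilinear (res _ M hT) (A.subgroupOf T)
    fun W hW => by
      by_cases h : W = ⊥
      · exact Or.inl h
      refine Or.inr (Submodule.map_injective_of_injective M.injective_subtype ?_)
      rw [Submodule.map_subtype_top]
      refine hmin' _ (Submodule.map_subtype_le _ _) ?_ fun e =>
        h (Submodule.map_injective_of_injective M.injective_subtype (by rw [e, Submodule.map_bot]))
      rintro a ha _ ⟨x, hx, rfl⟩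
      exact ⟨_, hW ⟨a, hM a ha, hM _ (inv_mem ha)⟩ ha x hx, rfl⟩
  have := Char.Ct.charP_of_equiv (p := p) e
  let := ZMod.algebra K p
  obtain ⟨r, hr⟩ := M.subtype.exists_leftInverse_of_injective M.ker_subtype
  have hr' : ∀ x (hx : x ∈ M), r x = ⟨x, hx⟩ := fun x hx => LinearMap.congr_fun hr ⟨x, hx⟩
  let ε : V →ₗ[ZMod p] K := e.toAddMonoidHom.toZModLinearMap p ∘ₗ r
  have hε : ∀ x (hx : x ∈ M), ε x = e ⟨x, hx⟩ := fun x hx => congrArg e (hr' x hx)
  have e0 : e ⟨v, hv⟩ ≠ 0 := fun h => v0 (congrArg Subtype.val (e.map_eq_zero_iff.1 h))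
  refine ⟨v, M, (Algebra.traceForm (ZMod p) K).comp
    (LinearMap.mulLeft (ZMod p) ((e ⟨v, hv⟩)⁻¹ ^ 2) ∘ₗ ε) ε, fun _ => ⟨v, hv, v0⟩, hfix,
    fun h e1 hu x => ?_, fun h e1 u hu w hw => ?_, fun u hu hw => ?_⟩
  · have h4 : h ∈ A := hc ▸ fun a ha => by
      have h5 := hs (a⁻¹ * (h * a * h⁻¹)) (mul_mem (inv_mem ha) (hA.conj_mem a ha h)) v (by
        rw [← rho_mul, ← rho_mul, ← rho_mul, rho_inv_fix ρ e1, hu _ (hM a ha v hv), rho_mul,
          inv_mul_cancel, map_one]; rfl) v0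
      rw [inv_mul_eq_one] at h5
      exact (mul_inv_eq_iff_eq_mul.1 h5.symm).symm
    rw [hs h h4 v e1 v0, map_one]; rfl
  · obtain ⟨a, σ, h4⟩ := h3 ⟨h, hfix h e1, hfix _ (rho_inv_fix ρ e1)⟩
    have h5 : ∀ x (hx : x ∈ M), ε (ρ h x) = a * σ (ε x) := fun x hx => by
      rw [hε _ (hfix h e1 x hx), hε x hx]; exact h4 ⟨x, hx⟩
    have h6 := h5 v hv
    rw [e1, hε v hv] at h6
    simp only [LinearMap.BilinForm.comp_apply, LinearMap.comp_apply, LinearMap.mulLeft_apply,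
      Algebra.traceForm_apply, h5 u hu, h5 w hw]
    let τ : K ≃ₐ[ZMod p] K := AlgEquiv.ofRingEquiv (f := σ) fun c =>
      RingHom.congr_fun (RingHom.ext_zmod ((σ : K →+* K).comp (algebraMap (ZMod p) K)) _) c
    rw [← Algebra.trace_eq_of_algEquiv τ (_ * ε u * ε w)]
    congr 1
    have h7 : a ≠ 0 := fun h => e0 (by rw [h6, h, zero_mul])
    have h8 : σ (e ⟨v, hv⟩) = a⁻¹ * e ⟨v, hv⟩ := by
      rw [eq_inv_mul_iff_mul_eq₀ h7]; exact h6.symm
    change _ = σ _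
    rw [map_mul, map_mul, map_pow, map_inv₀, h8]
    field_simp
  · have h4 := (traceForm_nondegenerate (ZMod p) K).1 ((e ⟨v, hv⟩)⁻¹ ^ 2 * ε u) fun y => by
      obtain ⟨w, rfl⟩ := e.surjective y
      have := hw w w.2
      rwa [LinearMap.BilinForm.comp_apply, hε w w.2] at this
    rw [hε u hu] at h4
    have h5 := (mul_eq_zero.1 h4).resolve_left (pow_ne_zero _ (inv_ne_zero e0))
    exact congrArg Subtype.val (e.map_eq_zero_iff.1 h5)

/-- The fixed points of a subgroup. -/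
def fixS (ρ : F →* End (ZMod p) V) (B : Subgroup F) : Submodule (ZMod p) V :=
  ⨅ b : B, LinearMap.eqLocus (ρ b) LinearMap.id

theorem mem_fixS {ρ : F →* End (ZMod p) V} {B : Subgroup F} {x : V} :
    x ∈ fixS ρ B ↔ ∀ b ∈ B, ρ b x = x := by
  simp [fixS]

theorem exists_rv_aux (n : ℕ) : ∀ (F : Type u) [Group F] [Finite F] [Group.IsNilpotent F]
    (V : Type v) [AddCommGroup V] [Module (ZMod p) V] [Finite V] (ρ : F →* End (ZMod p) V),
    ¬ p ∣ Nat.card F → Nat.card V = n → ∃ v U β, RV ρ v U β := by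
  induction n using Nat.strong_induction_on with | _ n ih => ?_
  intro F _ _ _ V _ _ _ ρ hF hn
  have hlt : ∀ W : Submodule (ZMod p) V, W ≠ ⊤ → Nat.card W < n := fun W h => by
    rw [← hn]
    obtain ⟨x, -, hx⟩ := SetLike.exists_of_lt (lt_top_iff_ne_top.2 h)
    exact Finite.card_subtype_lt hx
  rcases subsingleton_or_nontrivial V with h0 | h0
  · exact ⟨0, ⊥, 0, fun h => absurd h0 (not_subsingleton V), fun _ _ _ _ => by
      rw [Subsingleton.elim (ρ _ _) 0]; exact zero_mem _, fun _ _ _ _ => Subsingleton.elim _ _,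
      fun _ _ _ _ _ _ => rfl, fun _ _ _ => Subsingleton.elim _ _⟩
  by_cases hirr : Irr ρ
  swap
  · simp only [Irr, not_forall, not_or] at hirr
    obtain ⟨W, hW, h1, h2⟩ := hirr
    refine rv_sum hF ρ hW h1 (ih _ (hlt W h2) F W _ hF rfl) fun W' hW' e =>
      ih _ (hlt W' ?_) F W' _ hF rfl
    rintro rfl
    exact h1 (by simpa using e)
  suffices h : ∀ (F : Type u) [Group F] [Finite F] [Group.IsNilpotent F]
      (ρ : F →* End (ZMod p) V), ¬ p ∣ Nat.card F → Irr ρ → (∀ g, ρ g = 1 → g = 1) →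
      ∃ v U β, RV ρ v U β by
    obtain ⟨v, U, β, r⟩ := h (F ⧸ ρ.ker) (QuotientGroup.lift _ ρ le_rfl)
      (fun e => hF (e.trans (card_quotient_dvd_card _)))
      (fun W hW => hirr W fun g => hW (g : F ⧸ ρ.ker)) fun g hg => by
        obtain ⟨g, rfl⟩ := QuotientGroup.mk_surjective g
        exact (QuotientGroup.eq_one_iff g).2 hg
    exact ⟨v, U, β, r.ne, fun h => r.inv (h : F ⧸ ρ.ker), fun h => r.fa (h : F ⧸ ρ.ker),
      fun h => r.pr (h : F ⧸ ρ.ker), r.nd⟩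
  intro F _ _ _ ρ hF hirr hρ
  obtain ⟨A, -, hA, hAc, hc⟩ := PG.exists_normal_scn_ge (⊥ : Subgroup F)
  by_cases hs : ∀ a ∈ A, ∀ x, ρ a x = x → x ≠ 0 → a = 1
  · exact rv_field ρ hc hs
  push Not at hs
  obtain ⟨a, ha, x, h1, h2, h3⟩ := hs
  obtain ⟨B, ⟨hB, aB, B0⟩, hmax⟩ := WellFounded.has_min (wellFounded_gt (α := Subgroup F))
    {B | B ≤ A ∧ a ∈ B ∧ fixS ρ B ≠ ⊥} ⟨zpowers a, zpowers_le.2 ha, mem_zpowers a,
      (Submodule.ne_bot_iff _).2 ⟨x, mem_fixS.2 (by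
        let S : Subgroup F :=
          { carrier := {g | ρ g x = x}
            one_mem' := by simp
            mul_mem' := fun {c d} hc hd => by
              change ρ (c * d) x = x
              rw [← rho_mul, hd, hc]
            inv_mem' := fun hc => rho_inv_fix ρ hc }
        exact fun b hb => (zpowers_le (H := S)).2 h1 hb), h2⟩⟩
  have hW : Inv (ρ.comp (normalizer (B : Set F)).subtype) (fixS ρ B) := fun g w hw =>
    mem_fixS.2 fun b hb => by
      have := mem_fixS.1 hw _ ((mem_normalizer_iff''.1 g.2 b).1 hb)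
      change ρ b (ρ g w) = ρ g w
      conv_rhs => rw [← this]
      rw [rho_mul, rho_mul]
      congr 2; group
  have hN : ¬ p ∣ Nat.card (normalizer (B : Set F)) := fun e =>
    hF (e.trans (card_subgroup_dvd_card _))
  obtain ⟨π, p1, p2⟩ := exists_leftInverse (fun e => hN ((ZMod.natCast_eq_zero_iff _ _).1 e))
    (res _ _ hW) (ρ.comp (normalizer (B : Set F)).subtype) (h := (fixS ρ B).subtype)
    (fixS ρ B).injective_subtype (fun _ _ => rfl)
  refine rv_ind ρ hirr hW B0 π p1 p2 (fun g hg w => ?_) (ih _ (hlt _ fun e => h3 (hρ a ?_)) _ _ _ hN rfl)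
  · by_contra h4
    have hcomm : ∀ c ∈ A, ∀ d ∈ A, c * d = d * c := fun c hc d hd => setLike_mul_comm hc hd
    have h5 : ∀ b ∈ B, ρ (g * b * g⁻¹) (π (ρ g w)) = π (ρ g w) := fun b hb => by
      have h6 : g * b * g⁻¹ ∈ normalizer (B : Set F) := centralizer_le_normalizer _
        fun d hd => hcomm d (hB hd) _ (hA.conj_mem b (hB hb) g)
      have h7 := congrArg Subtype.val (p2 ⟨_, h6⟩ (ρ g w))
      rw [coe_res_apply] at h7
      refine h7.symm.trans ?_
      change (π (ρ (g * b * g⁻¹) (ρ g w)) : V) = _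
      rw [rho_mul, inv_mul_cancel_right, ← rho_mul, mem_fixS.1 w.2 b hb]
    refine hg (mem_normalizer_fintype fun b hb => ?_)
    by_contra h6
    refine hmax (B ⊔ zpowers (g * b * g⁻¹)) ⟨sup_le hB (zpowers_le.2 (hA.conj_mem b (hB hb) g)),
      mem_sup_left aB, (Submodule.ne_bot_iff _).2 ⟨π (ρ g w), mem_fixS.2 ?_,
        fun e => h4 (Subtype.ext e)⟩⟩ (lt_of_le_of_ne le_sup_left fun e =>
          h6 (e.ge (mem_sup_right (mem_zpowers _))))
    let S : Subgroup F :=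
      { carrier := {c | ρ c (π (ρ g w)) = π (ρ g w)}
        one_mem' := by simp
        mul_mem' := fun {c d} hc hd => by
          change ρ (c * d) _ = _
          rw [← rho_mul, hd, hc]
        inv_mem' := fun hc => rho_inv_fix ρ hc }
    exact fun c hc => (sup_le (c := S) (fun d hd => mem_fixS.1 (π (ρ g w)).2 d hd)
      (zpowers_le.2 (h5 b hb))) hc
  · ext y
    exact mem_fixS.1 (e.ge Submodule.mem_top) a aB

/-- `k(F V) ≤ |V|` for a nilpotent group `F`. -/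
theorem kk_le_of_nilpotent {X : Type u} [Group X] [Finite X] (V : Subgroup X) [V.Normal]
    (hVexp : ∀ v ∈ V, v ^ p = 1) (hidx : ¬ p ∣ V.index) (hself : centralizer (V : Set X) = V)
    (hn : Group.IsNilpotent (X ⧸ V)) : Nat.card (ConjClasses X) ≤ Nat.card V := by
  have hcomm : ∀ a ∈ V, ∀ b ∈ V, a * b = b * a := fun a ha b hb => (hself.ge hb) a ha
  have : ElemAb p V := ⟨fun a b => Subtype.ext (hcomm a a.2 b b.2),
    fun a => Subtype.ext (hVexp a a.2)⟩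
  obtain ⟨G, hG⟩ := exists_right_complement'_of_coprime (N := V) (by
    obtain ⟨k, hk⟩ := IsPGroup.iff_card.1 (ElemAb.isPGroup p V)
    rw [hk]
    exact (hp.out.coprime_iff_not_dvd.2 hidx).pow_left k)
  have := Group.nilpotent_of_mulEquiv hG.symm.QuotientMulEquiv
  let α := conjAutOf V G le_normalizer_of_normal
  obtain ⟨v, U, β, r⟩ := exists_rv_aux _ G (Vec p V) (Vec.rep p α)
    (hG.symm.index_eq_card ▸ hidx) rfl
  classical
  let c : X → Vec p V := fun x => if h : x ∈ V then Vec.ofMul p ⟨x, h⟩ else 0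
  have hc : ∀ x (h : x ∈ V), c x = Vec.ofMul p ⟨x, h⟩ := fun x h => dif_pos h
  let U' : Subgroup X := ((Vec.subEquiv p V).symm U).map V.subtype
  have hU : U' ≤ V := map_subtype_le _
  have hU1 : ∀ x (h : x ∈ V), x ∈ U' ↔ c x ∈ U := fun x h => by
    rw [hc x h]
    exact ⟨fun ⟨y, hy, e⟩ => by cases e; exact hy, fun e => ⟨⟨x, h⟩, e, rfl⟩⟩
  have hcm : ∀ x ∈ V, ∀ y ∈ V, c (x * y) = c x + c y := fun x hx y hy => by
    rw [hc x hx, hc y hy, hc _ (mul_mem hx hy)]; rfl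
  have hρ : ∀ h (hh : h ∈ G), ∀ x ∈ V, c (h * x * h⁻¹) = Vec.rep p α ⟨h, hh⟩ (c x) :=
    fun h hh x hx => by
      rw [hc x hx, hc _ (Normal.conj_mem inferInstance x hx h)]; rfl
  have hv : c (Vec.toMul v : V) = v := hc _ (Vec.toMul v).2
  have hf : ∀ h (hh : h ∈ G), h * (Vec.toMul v : V) * h⁻¹ = (Vec.toMul v : V) →
      Vec.rep p α ⟨h, hh⟩ v = v := fun h hh e => by
    have := hρ h hh _ (Vec.toMul v).2
    rw [e, hv] at this
    exact this.symm
  have hsu : ∀ u ∈ U, ∃ x ∈ U', c x = u := fun u hu =>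
    ⟨(Vec.toMul u : V), ⟨_, hu, rfl⟩, hc _ (Vec.toMul u).2⟩
  refine Cfsg.Agent.S4959.result p V hVexp hidx hself G hG (Vec.toMul v : V) (Vec.toMul v).2 U' hU
    (fun h hh e u hu => ?_) (fun h hh e hu => ?_) (fun x y => β (c x) (c y))
    (fun u hu u' hu' w _ => by rw [hcm u (hU hu) u' (hU hu'), map_add, LinearMap.add_apply])
    (fun u _ w hw w' hw' => by rw [hcm w (hU hw) w' (hU hw'), map_add])
    (fun h hh e u hu w hw => ?_) fun u hu hw => ?_
  · rw [hU1 _ (Normal.conj_mem inferInstance u (hU hu) h), hρ h hh u (hU hu)]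
    exact r.inv _ (hf h hh e) _ ((hU1 u (hU hu)).1 hu)
  · have h1 := r.fa _ (hf h hh e) fun u h1 => by
      obtain ⟨x, hx, rfl⟩ := hsu u h1
      rw [← hρ h hh x (hU hx), hu x hx]
    refine disjoint_def.1 hG.disjoint (hself.le fun x hx => ?_) hh
    have h2 := h1 (Vec.ofMul p ⟨x, hx⟩)
    have h3 : h * x * h⁻¹ = x := congrArg Subtype.val ((Vec.ofMul p).injective h2)
    exact (mul_inv_eq_iff_eq_mul.1 h3).symm
  · rw [hρ h hh u (hU hu), hρ h hh w (hU hw)]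
    exact r.pr _ (hf h hh e) _ ((hU1 u (hU hu)).1 hu) _ ((hU1 w (hU hw)).1 hw)
  · have h1 := r.nd _ ((hU1 u (hU hu)).1 hu) fun w h1 => by
      obtain ⟨x, hx, rfl⟩ := hsu w h1
      exact hw x hx
    rw [hc u (hU hu)] at h1
    exact congrArg Subtype.val (Vec.ofMul_eq_zero.1 h1)

end Cfsg.Lib.KR
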