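import Cfsg.Agent.KR.Basic
import Cfsg.Agent.KR.Nil
import Cfsg.Agent.Gate.S4265
import Cfsg.Agent.Block.FongRed
import Cfsg.Agent.Char.GoodCount
import Cfsg.Agent.Solv.MinNormal
import Cfsg.Agent.Solv.PSolvable

/-! The number of characters in a block of a solvable group. -/

set_option autoImplicit false

namespace Cfsg.Lib.KR

open Subgroup Cfsg.Lib.Solv Cfsg.Agent

universe u

theorem kk_quot_ker {X Y : Type*} [Group X] [Group Y] [Finite Y] (f : X →* Y)
    (hf : Function.Surjective f) : kk (X ⧸ f.ker) ≤ kk Y :=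
  kk_le_of_surj (QuotientGroup.quotientKerEquivOfSurjective f hf).symm.toMonoidHom
    (QuotientGroup.quotientKerEquivOfSurjective f hf).symm.surjective

variable {p : ℕ} [hp : Fact p.Prime]

theorem cent_eq {K : Type u} [Group K] [Finite K] (h : pPrimeCore p K = ⊥) {V : Subgroup K}
    [V.Normal] (hV : IsPGroup p V) (hc : V ≤ centralizer (V : Set K)) (hi : ¬ p ∣ V.index) :
    centralizer (V : Set K) = V := by
  have h1 : pPrimeCore p (centralizer (V : Set K)) = ⊥ :=
    pPrimeCore_eq_bot_of_isSubnormal (Normal.isSubnormal inferInstance) h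
  have h2 : ¬ p ∣ (V.subgroupOf (centralizer (V : Set K))).index := fun e =>
    hi (e.trans (relIndex_dvd_index_of_normal _ _))
  obtain ⟨H, hH⟩ := exists_right_complement'_of_coprime
    (N := V.subgroupOf (centralizer (V : Set K))) (by
      obtain ⟨k, hk⟩ := IsPGroup.iff_card.1 (hV.comap_subtype (K := centralizer (V : Set K)))
      rw [show Nat.card (V.subgroupOf (centralizer (V : Set K))) = p ^ k from hk]
      exact (hp.out.coprime_iff_not_dvd.2 h2).pow_left k)
  have h3 : H.Normal := ⟨fun x hx g => by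
    obtain ⟨⟨v, y⟩, rfl⟩ := hH.2 g
    have e : v.1 * y.1 * x * (v.1 * y.1)⁻¹ = y.1 * x * y.1⁻¹ := by
      have := mem_centralizer_iff.1 (y.1 * x * y.1⁻¹).2 _ v.2
      apply Subtype.ext
      simp only [coe_mul, coe_inv, coe_subtype] at this ⊢
      rw [mul_inv_rev, ← mul_assoc, mul_inv_eq_iff_eq_mul, ← this]
      group
    change v.1 * y.1 * x * (v.1 * y.1)⁻¹ ∈ H
    rw [e]
    exact H.mul_mem (H.mul_mem y.2 hx) (H.inv_mem y.2)⟩
  have h4 : H = ⊥ := pPrimeCore_eq_bot_iff.1 h1 H h3
    (hp.out.coprime_iff_not_dvd.2 (hH.symm.index_eq_card ▸ h2)).symm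
  rw [h4, isComplement'_bot_right, subgroupOf_eq_top] at hH
  exact le_antisymm hH hc

theorem kk_le_of_coprime [Gate.S4265] {K : Type u} [Group K] [Finite K] [Group.IsSolvable K]
    (V : Subgroup K) [V.Normal] (h1 : ∀ v ∈ V, v ^ p = 1) (h2 : ¬ p ∣ V.index)
    (h3 : centralizer (V : Set K) = V) {m : ℕ} (hm : 1 ≤ m) (h4 : Nat.card V = p ^ m) :
    kk K ≤ 3 ^ (m - 1) * p ^ m := by
  have : ElemAb p V := ⟨fun a b => Subtype.ext ((h3.ge b.2) a a.2), fun a => Subtype.ext (h1 a a.2)⟩
  let α : K →* MulAut V := MulAut.conjNormal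
  have ka : α.ker = V := by
    refine Eq.trans ?_ h3
    ext g
    rw [MonoidHom.mem_ker, mem_centralizer_iff]
    constructor
    · intro h v hv
      have := congrArg Subtype.val (DFunLike.congr_fun h ⟨v, hv⟩)
      change g * v * g⁻¹ = v at this
      exact (mul_inv_eq_iff_eq_mul.1 this).symm
    · intro h
      ext v
      change g * v * g⁻¹ = v
      rw [← h v v.2, mul_inv_cancel_right]
  obtain ⟨τ, hτ, -⟩ := Char.Ct.exists_rep (p := p)
    (ρ := (Vec.autEquiv p V).toMonoidHom.comp α.range.subtype)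
    ((Vec.autEquiv p V).injective.comp α.range.subtype_injective) (by rwa [← index_ker, ka])
  generalize hr : Module.finrank (ZMod p) (Vec p V) = r at τ hτ
  obtain rfl : r = m := hr.symm.trans (Vec.finrank_eq_of_card h4)
  let ψ : K →* GL (Fin r) ℂ :=
    (Matrix.GeneralLinearGroup.toLin.symm.toMonoidHom.comp τ.asGroupHom).comp α.rangeRestrict
  have kψ : ψ.ker = V := by
    refine Eq.trans ?_ ka
    ext g
    simp only [ψ, MonoidHom.mem_ker, MonoidHom.comp_apply, MulEquiv.coe_toMonoidHom,
      map_eq_one_iff _ (MulEquiv.injective _), Units.ext_iff, Representation.asGroupHom_apply,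
      Units.val_one, map_eq_one_iff _ hτ, Subtype.ext_iff, MonoidHom.coe_rangeRestrict, coe_one]
  have : Finite ψ.range := Finite.of_surjective _ ψ.rangeRestrict_surjective
  have h5 := Gate.S4265.out r hm ψ.range
    (Group.isSolvable_of_surjective ψ.rangeRestrict_surjective) ⊤
  let f := (QuotientGroup.mk' (fittingSubgroup ψ.range)).comp ψ.rangeRestrict
  have hf : Function.Surjective f :=
    (QuotientGroup.mk'_surjective _).comp ψ.rangeRestrict_surjective
  have h6 : kk (K ⧸ f.ker) ≤ 3 ^ (r - 1) := by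
    refine ((kk_quot_ker f hf).trans
      (kk_le_of_surj (QuotientGroup.map _ _ (⊤ : Subgroup ψ.range).subtype le_rfl) fun y => ?_)).trans
      h5
    obtain ⟨x, rfl⟩ := QuotientGroup.mk_surjective y
    exact ⟨QuotientGroup.mk ⟨x, mem_top x⟩, rfl⟩
  have hle : V ≤ f.ker := fun v hv => by
    have : ψ.rangeRestrict v = 1 := Subtype.ext (kψ.ge hv)
    rw [MonoidHom.mem_ker, MonoidHom.comp_apply, this, map_one]
  have h7 : kk f.ker ≤ p ^ r := by
    rw [← h4, ← Nat.card_congr (subgroupOfEquivOfLe hle).toEquiv]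
    refine kk_le_of_nilpotent (p := p) _ (fun v hv => Subtype.ext (h1 v hv))
      (fun e => h2 (e.trans (relIndex_dvd_index_of_normal _ _))) ?_ ?_
    · ext x
      exact ⟨fun h => h3.le fun v hv => congrArg Subtype.val (h ⟨v, hle hv⟩ hv),
        fun h v hv => Subtype.ext (h3.ge h v hv)⟩
    · let g : f.ker →* fittingSubgroup ψ.range := (ψ.rangeRestrict.comp f.ker.subtype).codRestrict _
        fun x => (QuotientGroup.eq_one_iff _).1 x.2
      have kg : g.ker = V.subgroupOf f.ker := by
        ext x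
        exact ⟨fun h => kψ.le (congrArg Subtype.val (congrArg Subtype.val h) :),
          fun h => Subtype.ext (Subtype.ext (kψ.ge h))⟩
      exact Group.nilpotent_of_mulEquiv ((QuotientGroup.quotientKerEquivRange g).symm.trans
        (QuotientGroup.quotientMulEquivOfEq kg))
  rw [mul_comm]
  exact (ClassNum.card_conjClasses_le_mul f.ker).trans (Nat.mul_le_mul h7 h6)

theorem kk_le_of_core [Gate.S4265] (X : Type u) [Group X] [Finite X] [Group.IsSolvable X]
    (h : pPrimeCore p X = ⊥) :
    kk X ≤ 3 ^ ((Nat.card X).factorization p - 1) * p ^ (Nat.card X).factorization p := by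
  induction hn : Nat.card X using Nat.strong_induction_on generalizing X with
  | _ n ih =>
  subst hn
  rcases subsingleton_or_nontrivial X with _ | _
  · refine kk_le_card.trans ?_
    simp
  obtain ⟨q, V, hq, v1, v2, v3, v4⟩ := exists_isMinNormal_elementary X
  have := v1.normal
  have := Fact.mk hq
  obtain ⟨m, hm⟩ := IsPGroup.iff_card.1 v4
  have m1 : 1 ≤ m := Nat.one_le_iff_ne_zero.2 fun e =>
    v1.ne_bot (card_eq_one.1 (by rw [hm, e, pow_zero]))
  obtain rfl : q = p := by
    by_contra e
    exact v1.ne_bot (pPrimeCore_eq_bot_iff.1 h V v1.normal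
      (hm ▸ ((Nat.coprime_primes hq hp.out).2 e).pow_left m))
  let f := (QuotientGroup.mk' (pPrimeCore q (X ⧸ V))).comp (QuotientGroup.mk' V)
  have hf : Function.Surjective f :=
    (QuotientGroup.mk'_surjective _).comp (QuotientGroup.mk'_surjective _)
  have hle : V ≤ f.ker := fun v hv => by
    rw [MonoidHom.mem_ker, MonoidHom.comp_apply, QuotientGroup.mk'_apply V,
      (QuotientGroup.eq_one_iff v).2 hv, map_one]
  have c1 : Nat.card X = q ^ m * (Nat.card (pPrimeCore q (X ⧸ V)) *
      Nat.card ((X ⧸ V) ⧸ pPrimeCore q (X ⧸ V))) := by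
    rw [← hm, mul_comm (Nat.card (pPrimeCore q (X ⧸ V))), ← card_eq_card_quotient_mul_card_subgroup,
      mul_comm, ← card_eq_card_quotient_mul_card_subgroup]
  have c2 : (V.subgroupOf f.ker).index = Nat.card (pPrimeCore q (X ⧸ V)) := by
    have a1 := relIndex_mul_index hle
    have a2 := (pPrimeCore q (X ⧸ V)).card_mul_index
    rw [index_ker, MonoidHom.range_eq_top.2 hf, card_top] at a1
    exact Nat.eq_of_mul_eq_mul_right Nat.card_pos (a1.trans a2.symm)
  have c3 : ¬ q ∣ (V.subgroupOf f.ker).index := c2 ▸ not_dvd_card_pPrimeCore q _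
  have h1 := kk_le_of_coprime (V.subgroupOf f.ker) (fun v hv => Subtype.ext (v3 v hv)) c3
    (cent_eq (pPrimeCore_eq_bot_of_isSubnormal (Normal.isSubnormal inferInstance) h)
      v4.comap_subtype (fun a ha b hb => Subtype.ext (congrArg Subtype.val
        (v2.is_comm.comm ⟨b, hb⟩ ⟨a, ha⟩) :)) c3) m1
    ((Nat.card_congr (subgroupOfEquivOfLe hle).toEquiv).trans hm)
  have h2 := ih _ (by
    rw [c1]
    exact (Nat.le_mul_of_pos_left _ Nat.card_pos).trans_lt (lt_mul_of_one_lt_left
      (Nat.mul_pos Nat.card_pos Nat.card_pos) (Nat.one_lt_pow (by omega) hq.one_lt)))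
    _ (pPrimeCore_quotient_pPrimeCore q (X ⧸ V)) rfl
  have c4 : (Nat.card X).factorization q =
      m + (Nat.card ((X ⧸ V) ⧸ pPrimeCore q (X ⧸ V))).factorization q := by
    rw [c1, Nat.factorization_mul (pow_ne_zero _ hq.ne_zero)
      (Nat.mul_pos Nat.card_pos Nat.card_pos).ne', Nat.factorization_mul Nat.card_pos.ne'
      Nat.card_pos.ne', hq.factorization_pow, Finsupp.add_apply, Finsupp.add_apply,
      Finsupp.single_eq_same, Nat.factorization_eq_zero_of_not_dvd (not_dvd_card_pPrimeCore q _),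
      zero_add]
  refine (ClassNum.card_conjClasses_le_mul f.ker).trans 
    ((Nat.mul_le_mul h1 ((kk_quot_ker f hf).trans h2)).trans ?_)
  rw [c4, mul_mul_mul_comm, ← pow_add, ← pow_add]
  exact Nat.mul_le_mul_right _ (Nat.pow_le_pow_right (by omega) (by omega))

open Cfsg.Lib.Char Cfsg.Lib.Block in
omit hp in
theorem card_overSet_le {G : Type u} [Group G] [Finite G] {N : Subgroup G} [N.Normal]
    {θ : IrrCharacter N} (h : ∀ g : G, cjI g θ = θ) : Nat.card (overSet N {θ}) ≤ kk (G ⧸ N) := by
  classical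
  have := Fintype.ofFinite N
  have h0 := cnt_zero_eq_good N.subtype_injective (QuotientGroup.mk'_surjective N)
    (by rw [QuotientGroup.ker_mk', range_subtype]) θ.2 fun g n n' e => by
      conv_rhs => rw [← h g, cjI_apply]
      exact congrArg _ (Subtype.ext e)
  have h1 : cnt 0 N.subtype (θ : N → ℂ) = Nat.card (overSet N {θ}) := by
    rw [cnt_zero]
    refine Nat.card_congr (Equiv.subtypeEquivRight fun χ => ?_)
    rw [over_subtype_iff, mem_overSet]
    simp only [Set.mem_singleton_iff, exists_eq_left, Block.over_iff]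
  rw [← h1, h0]
  exact Nat.card_le_card_of_injective _ Subtype.val_injective

open Cfsg.Lib.Block in
theorem card_block_le [Gate.S4265] {M : Ideal AlgInt} (hM : IsPModular p M) (G : Type u) [Group G]
    [Finite G] (hG : Group.IsSolvable G) {B : Set (IrrCharacter G)} (hB : IsPBlock M B) :
    Nat.card B ≤ 3 ^ (blockDefect p B - 1) * p ^ blockDefect p B := by
  refine fong_induction hM (Q := fun G _ _ B => Group.IsSolvable G →
    Nat.card B ≤ 3 ^ (blockDefect p B - 1) * p ^ blockDefect p B) ?_ ?_ G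
    (IsPSolvable.of_isSolvable p G) hB hG
  · intro G _ _ h θ hθ _
    obtain ⟨h1, h2, -⟩ := fong_block hM (isPConstrained_of_isPSolvable h) hθ
    obtain ⟨P⟩ : Nonempty (Sylow p G) := inferInstance
    have h3 : (Nat.card (G ⧸ pPrimeCore p G)).factorization p = (Nat.card G).factorization p := by
      rw [card_eq_card_quotient_mul_card_subgroup (pPrimeCore p G),
        Nat.factorization_mul Nat.card_pos.ne' Nat.card_pos.ne', Finsupp.add_apply,
        Nat.factorization_eq_zero_of_not_dvd (Solv.not_dvd_card_pPrimeCore p _), add_zero]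
    rw [blockDefect_eq_of_card hM h1 ((h2 P).2 (isSylowIn_top_iff.2 ⟨P, rfl⟩))
      P.card_eq_multiplicity, ← h3]
    exact (card_overSet_le hθ).trans (kk_le_of_core _ (pPrimeCore_quotient_pPrimeCore p G))
  · intro G _ _ _ T A B' B _ hFR hA hind ih _
    rw [hFR.card_eq hM hA hind, hFR.blockDefect_eq hM hA hind]
    exact ih inferInstance

end Cfsg.Lib.KR
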