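import Cfsg.Agent.KR.QP
import Cfsg.Agent.Char.DegBasic
import Cfsg.Agent.Block.PrimClass
import Cfsg.Agent.Perm.KPerm

/-! The class number bound modulo the Fitting subgroup for solvable linear groups. -/

set_option autoImplicit false

namespace Cfsg.Lib.KR

open Subgroup Cfsg.Lib.Solv Cfsg.Lib.Char

theorem coreKer_normal {X Y : Type*} [Group X] [Group Y] {T : Subgroup X} (ψ : T →* Y) :
    ((⨅ x, (ψ.comp (cjHom T.normalCore_le x)).ker).map T.normalCore.subtype).Normal := by
  refine ⟨?_⟩
  rintro _ ⟨c, hc, rfl⟩ g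
  refine ⟨⟨g * c * g⁻¹, T.normalCore_normal.conj_mem _ c.2 g⟩, mem_iInf.2 fun x => ?_, rfl⟩
  have := mem_iInf.1 hc (g⁻¹ * x)
  rw [MonoidHom.mem_ker, MonoidHom.comp_apply] at this ⊢
  rw [← this]
  congr 1
  exact Subtype.ext (by simp [cjHom, mul_assoc])

theorem kb_char (n : ℕ) : ∀ (G : Type) [Group G] [Fintype G], Group.IsSolvable G →
    ∀ χ : G → ℂ, IsCharacter G χ → charKer χ = ⊥ → χ 1 = n → 1 ≤ n →
      ∀ [(fittingSubgroup G).Normal], KB (G ⧸ fittingSubgroup G) (3 ^ (n - 1)) := by
  induction n using Nat.strong_induction_on with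
  | _ n ih =>
  intro G _ _ hs χ hχ hf hn h1 _
  classical
  have ih' : ∀ (T : Type) [Group T] [Finite T], Group.IsSolvable T → ∀ θ : T → ℂ, IsCharacter T θ →
      ∀ m : ℕ, θ 1 = m → 1 ≤ m → m < n → ∃ (Q : Type) (_ : Group Q) (_ : Finite Q) (f : T →* Q),
        f.ker = charKer θ ∧ KB (Q ⧸ fittingSubgroup Q) (3 ^ (m - 1)) := fun T _ _ hT θ hθ m e a b => by
    have := hθ.charKer_normal
    have := Fintype.ofFinite (T ⧸ charKer θ)
    exact ⟨T ⧸ charKer θ, inferInstance, inferInstance, QuotientGroup.mk' _, QuotientGroup.ker_mk' _,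
      ih m b _ inferInstance _ (hθ.deflate le_rfl)
        (by rw [hθ.charKer_deflate le_rfl, QuotientGroup.map_mk'_self])
        ((hθ.isClassFunction.deflate_mk le_rfl 1).trans e) a⟩
  by_cases hi : IsIrrCharacter G χ
  · by_cases hx : ∃ H : Subgroup G, H ≠ ⊤ ∧ ∃ θ, IsCharacter H θ ∧ indFun H θ = χ
    · obtain ⟨T, hT, θ, hθ, rfl⟩ := hx
      obtain ⟨m, hm⟩ := hθ.exists_nat_degree
      have n1 : n = T.index * m := by
        rw [indFun_one, hm] at hn
        exact_mod_cast hn.symm
      have b2 : 2 ≤ T.index := by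
        have := T.index_ne_zero_of_finite
        have := T.index_eq_one.not.2 hT
        omega
      have m1 : 1 ≤ m := Nat.one_le_iff_ne_zero.2 fun e => by simp [n1, e] at h1
      obtain ⟨Q, _, _, f, kf, k1⟩ := ih' T inferInstance θ hθ m hm m1 (by nlinarith)
      have k2 : KB (G ⧸ T.normalCore) (3 ^ (T.index - 1)) :=
        KB.quot_ker (fun H => KPerm.card_conjClasses_le H.subtype H.subtype_injective)
          (MulAction.toPermHom G (G ⧸ T)) T.normalCore_eq_ker.ge
      refine (KB.wreath ((QuotientGroup.mk' _).comp f) k1 k2 fun c hc => ?_).mono ?_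
      · refine le_fitting (coreKer_normal ((QuotientGroup.mk' (fittingSubgroup Q)).comp f))
          (isNilpotent_map _ _ ?_) ⟨c, mem_iInf.2 hc, rfl⟩
        refine isNilpotent_of_fam (Q := fun _ : G => Q)
          (fun x => (f.comp (cjHom T.normalCore_le x)).comp (Subgroup.subtype _))
          (fun _ => fittingSubgroup Q) (fun _ => inferInstance)
          (fun x y => (QuotientGroup.eq_one_iff _).1 (mem_iInf.1 y.2 x)) fun y hy => ?_
        have := coreKer_normal f
        have h := Deg.le_charKer_indFun hθ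
          ((⨅ x, (f.comp (cjHom T.normalCore_le x)).ker).map T.normalCore.subtype)
          ((map_subtype_le _).trans T.normalCore_le) (by
            rintro _ ⟨d, hd, rfl⟩
            refine apply_of_mem_charKer (kf.le ?_)
            have := mem_iInf.1 hd 1
            rw [MonoidHom.mem_ker] at this ⊢
            rw [← this, MonoidHom.comp_apply]
            congr 1
            exact Subtype.ext (by simp [cjHom]))
        exact Subtype.ext (Subtype.ext ((h.trans hf.le) ⟨y.1, mem_iInf.2 hy, rfl⟩))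
      · rw [← pow_mul, ← pow_add]
        refine Nat.pow_le_pow_right three_pos ?_
        obtain ⟨m, rfl⟩ := Nat.exists_eq_add_of_le' m1
        rw [Nat.add_sub_cancel, n1, mul_add_one, mul_comm]
        omega
    · exact kb_qp hs hi (Block.FixAvg.quasiPrimitive_of_not_induced hi hx) hf hn
        fun C _ φ m h1 h2 h3 h4 _ => ih m h4 C inferInstance φ h1.isCharacter h2 h3
          (Nat.one_le_iff_ne_zero.2 fun e => h1.apply_one_ne_zero (by simp [h3, e]))
  · obtain ⟨ψ, θ, hψ, hθ, rfl⟩ : ∃ ψ θ, IsIrrCharacter G ψ ∧ IsCharacter G θ ∧ χ = ψ + θ :=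
      (hχ.induction_on (P := fun χ => χ = 0 ∨ ∃ ψ θ, IsIrrCharacter G ψ ∧ IsCharacter G θ ∧ χ = ψ + θ)
        (.inl rfl) fun ψ θ a b _ => .inr ⟨ψ, θ, a, b, rfl⟩).resolve_left fun e => by
          rw [e, Pi.zero_apply] at hn
          have : n = 0 := by exact_mod_cast hn.symm
          omega
    obtain ⟨a, a0, ha⟩ := hψ.exists_nat_degree_pos
    obtain ⟨b, hb⟩ := hθ.exists_nat_degree
    have b0 : 1 ≤ b := Nat.one_le_iff_ne_zero.2 fun e => hi (by
      rwa [hθ.eq_zero_of_apply_one (by simp [hb, e]), add_zero])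
    have n1 : n = a + b := by
      rw [Pi.add_apply, ha, hb] at hn
      exact_mod_cast hn.symm
    obtain ⟨Q, _, _, f, kf, k1⟩ := ih' G hs ψ hψ.isCharacter a ha a0 (by omega)
    obtain ⟨R, _, _, g, kg, k2⟩ := ih' G hs θ hθ b hb b0 (by omega)
    have k3 := KB.ext (MonoidHom.snd (Q ⧸ fittingSubgroup Q) (R ⧸ fittingSubgroup R))
      (k1.of_inj ((MonoidHom.fst _ _).comp (Subgroup.subtype _)) fun x y e =>
        Subtype.ext (Prod.ext e (x.2.trans y.2.symm))) k2
    let F := ((QuotientGroup.mk' (fittingSubgroup Q)).comp f).prod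
      ((QuotientGroup.mk' (fittingSubgroup R)).comp g)
    refine (k3.quot_ker F (le_fitting inferInstance (Subgroup.isNilpotent_of_ker_le_center
      (((f.comp F.ker.subtype).codRestrict (fittingSubgroup Q) fun x =>
        (QuotientGroup.eq_one_iff _).1 (congrArg Prod.fst x.2)).prod
        ((g.comp F.ker.subtype).codRestrict (fittingSubgroup R) fun x =>
        (QuotientGroup.eq_one_iff _).1 (congrArg Prod.snd x.2))) fun x hx => ?_))).mono ?_
    · rw [hψ.isCharacter.charKer_add hθ, ← kf, ← kg] at hf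
      rw [show x = 1 from Subtype.ext (hf.le ⟨congrArg Subtype.val (congrArg Prod.fst hx),
        congrArg Subtype.val (congrArg Prod.snd hx)⟩)]
      exact one_mem _
    · rw [← pow_add]
      exact Nat.pow_le_pow_right three_pos (by omega)

end Cfsg.Lib.KR
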