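import Cfsg.Agent.KR.Nil
import Cfsg.Agent.KR.Basic
import Cfsg.Agent.S4374
import Cfsg.Agent.S4208
import Cfsg.Agent.S0992
import Cfsg.Agent.Solv.NilpotentHall
import Cfsg.Agent.Solv.Hall

/-! Irreducible actions of solvable groups on elementary abelian groups: tools. -/

set_option autoImplicit false
set_option linter.unusedSectionVars false

namespace Cfsg.Lib.KR

open Subgroup Cfsg.Lib.Solv

variable {Γ W : Type*} [Group Γ] [Group W] [MulDistribMulAction Γ W]

/-- Common fixed points. -/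
def fxs (W : Type*) [Group W] [MulDistribMulAction Γ W] (S : Set Γ) : Subgroup W where
  carrier := {w | ∀ g ∈ S, g • w = w}
  one_mem' := fun _ _ => smul_one _
  mul_mem' := fun ha hb g hg => by rw [smul_mul', ha g hg, hb g hg]
  inv_mem' := fun ha g hg => by rw [smul_inv', ha g hg]

theorem mem_fxs {S : Set Γ} {w : W} : w ∈ fxs W S ↔ ∀ g ∈ S, g • w = w := Iff.rfl

theorem mem_fxs1 {x : Γ} {w : W} : w ∈ fxs W {x} ↔ x • w = w := by simp [mem_fxs]

/-- Irreducibility. -/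
def IrrA (Γ W : Type*) [Group Γ] [Group W] [MulDistribMulAction Γ W] : Prop :=
  ∀ U : Subgroup W, (∀ g : Γ, ∀ u ∈ U, g • u ∈ U) → U = ⊥ ∨ U = ⊤

theorem free_dvd (P : Subgroup Γ) (S : Set W) (hS : ∀ c ∈ P, ∀ w ∈ S, c • w ∈ S)
    (hf : ∀ c ∈ P, ∀ w ∈ S, c • w = w → c = 1) : Nat.card P ∣ S.ncard := by
  let T : SubMulAction P W := ⟨S, fun c w hw => hS c c.2 w hw⟩
  have e := Nat.card_congr (MulAction.selfEquivOrbitsQuotientProd (G := P) (X := T) fun w =>
    eq_bot_iff.2 fun c hc => Subtype.ext (hf c c.2 w w.2 (congrArg Subtype.val hc)))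
  rw [Nat.card_prod] at e
  exact Dvd.intro_left _ e.symm

theorem smul_comm_fx {c x : Γ} (h : c * x = x * c) {w : W} (hw : c • w = w) :
    c • x • w = x • w := by rw [← mul_smul, h, mul_smul, hw]

variable [Finite Γ] [Finite W]

theorem prime_modEq {x : Γ} {r : ℕ} (hr : r.Prime) (hx : orderOf x = r) (U : Subgroup W)
    (hU : ∀ w ∈ U, x • w ∈ U) : Nat.card (U ⊓ fxs W {x} : Subgroup W) ≡ Nat.card U [MOD r] := by
  have h1 : ∀ c ∈ zpowers x, ∀ w ∈ U, c • w ∈ U := fun c hc w hw => by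
    obtain ⟨n, rfl⟩ := mem_powers_iff_mem_zpowers.2 hc
    induction n with
    | zero => simpa using hw
    | succ n ih => simpa [pow_succ', mul_smul] using hU _ (ih (npow_mem_zpowers x n))
  have h2 := free_dvd (zpowers x) ((U : Set W) \ (U ⊓ fxs W {x} : Subgroup W))
    (fun c hc w hw => ⟨h1 c hc w hw.1, fun e => hw.2 ⟨hw.1, mem_fxs1.2 (by
      have e1 := mem_fxs1.1 e.2
      obtain ⟨n, rfl⟩ := hc
      rw [← mul_smul, ← (Commute.zpow_self x n).eq, mul_smul] at e1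
      exact smul_left_cancel _ e1)⟩⟩) fun c hc w hw e => by
      by_contra h3
      have := Fact.mk hr
      have h4 : x ∈ zpowers c := by
        have := mem_zpowers_of_prime_card (G := zpowers x) (p := r) (by rw [Nat.card_zpowers, hx])
          (g := ⟨c, hc⟩) (g' := ⟨x, mem_zpowers x⟩) fun e => h3 (congrArg Subtype.val e)
        obtain ⟨n, hn⟩ := this
        exact ⟨n, congrArg Subtype.val hn⟩
      exact hw.2 ⟨hw.1, mem_fxs1.2
        ((zpowers_le (H := MulAction.stabilizer Γ w)).2 e h4)⟩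
  rw [Nat.card_zpowers, hx, Set.ncard_sdiff (fun _ h => h.1)] at h2
  exact (Nat.modEq_iff_dvd' (card_le_of_le inf_le_left)).2 h2

theorem exists_card_pow {p n : ℕ} (hp : p.Prime) (hW : Nat.card W = p ^ n) (U : Subgroup W) :
    ∃ j ≤ n, Nat.card U = p ^ j :=
  (Nat.dvd_prime_pow hp).1 (hW ▸ U.card_subgroup_dvd_card)

variable [hfa : FaithfulSMul Γ W]

theorem eq_one_of_top {S : Set Γ} (h : fxs W S = ⊤) {g : Γ} (hg : g ∈ S) : g = 1 :=
  FaithfulSMul.eq_of_smul_eq_smul (α := W) fun w => by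
    rw [one_smul]; exact h.ge (mem_top w) g hg

theorem IrrA.fxs_eq_bot (h : IrrA Γ W) (N : Subgroup Γ) [hN : N.Normal] (h0 : N ≠ ⊥) :
    fxs W (N : Set Γ) = ⊥ := by
  refine (h (fxs W (N : Set Γ)) fun g u hu n hn => ?_).resolve_right fun e =>
    h0 (eq_bot_iff.2 fun g hg => eq_one_of_top e hg)
  conv_rhs => rw [← hu _ (hN.conj_mem' n hn g)]
  rw [← mul_smul, ← mul_smul]
  congr 1; group

theorem IrrA.modEq_of_pCore (h : IrrA Γ W) (r : ℕ) [Fact r.Prime] (h0 : pCore r Γ ≠ ⊥) :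
    Nat.card W ≡ 1 [MOD r] := by
  have h1 := (pCore_isPGroup r Γ).card_modEq_card_fixedPoints W
  have h2 : MulAction.fixedPoints (pCore r Γ) W = {1} := by
    ext w
    refine ⟨fun hw => ?_, fun hw => by rw [hw]; exact fun m => smul_one m⟩
    exact (h.fxs_eq_bot _ h0).le fun g hg => hw ⟨g, hg⟩
  rwa [h2, Nat.card_unique (α := ({1} : Set W))] at h1

omit hfa in
theorem ncard_compl_one : (({1} : Set W)ᶜ).ncard = Nat.card W - 1 := by
  have := Set.ncard_add_ncard_compl ({1} : Set W)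
  rw [Set.ncard_singleton] at this
  omega

theorem IrrA.kb [Nontrivial W] (h : IrrA Γ W) {m : ℕ} (h1 : Nat.card W ≤ m + 1)
    (h2 : 5 * Nat.card Γ < 8 * (m + 1)) : KB Γ m := by
  by_cases hc : IsMulCommutative Γ
  · have h3 := free_dvd (⊤ : Subgroup Γ) (({1} : Set W)ᶜ)
      (fun c _ w hw e => hw (smul_left_cancel c (e.trans (smul_one c).symm))) fun c _ w hw e => by
        by_contra h4
        have : (zpowers c).Normal := ⟨fun n hn g => by
          rwa [mul_comm' g n, mul_inv_cancel_right]⟩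
        exact hw ((h.fxs_eq_bot (zpowers c) (by simpa using h4)).le fun g hg =>
          (zpowers_le (H := MulAction.stabilizer Γ w)).2 e hg)
    rw [card_top, ncard_compl_one] at h3
    have := Finite.one_lt_card (α := W)
    exact KB.of_card ((Nat.le_of_dvd (by omega) h3).trans (by omega))
  · exact KB.of_five hc h2

theorem IrrA.card_le_cube (h : IrrA Γ W) {p : ℕ} [ElemAb p W] (hs : Group.IsSolvable Γ) :
    Nat.card Γ ≤ Nat.card W ^ 3 := by
  have := ElemAb.isMulCommutative p W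
  have hf : ∀ {a b : Γ}, (∀ w : W, a • w = b • w) → a = b := hfa.eq_of_smul_eq_smul
  open scoped IsMulCommutative in
  let act : DistribMulAction Γ (Additive W) :=
    { smul := fun a v => Additive.ofMul (a • v.toMul)
      one_smul := fun v => congrArg Additive.ofMul (one_smul Γ v.toMul)
      mul_smul := fun a b v => congrArg Additive.ofMul (mul_smul a b v.toMul)
      smul_zero := fun a => congrArg Additive.ofMul (smul_one a)
      smul_add := fun a v w => congrArg Additive.ofMul (smul_mul' a v.toMul w.toMul) }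
  have : FaithfulSMul Γ (Additive W) := ⟨fun {a b} e => hf fun w => e (Additive.ofMul w)⟩
  open scoped IsMulCommutative in
  obtain ⟨x, y, z, h1⟩ := Cfsg.Agent.S4374.result (A := Γ) (V := Additive W) hs fun U hU => by
    rcases h (AddSubgroup.toSubgroup' U) hU with e | e
    · refine ⟨⊤, fun _ _ _ => trivial, ?_, by simp⟩
      rw [inf_top_eq, eq_bot_iff]
      exact fun u hu => e.le hu
    · refine ⟨⊥, fun a w hw => by rw [AddSubgroup.mem_bot.1 hw, smul_zero]; exact zero_mem _,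
        by simp, ?_⟩
      rw [sup_bot_eq, eq_top_iff]
      exact fun u _ => e.ge (mem_top u.toMul)
  have h2 := Nat.card_le_card_of_injective
    (fun g : Γ => ((g • x.toMul, g • y.toMul, g • z.toMul) : W × W × W)) fun a b e => by
      simp only [Prod.mk.injEq] at e
      have k : ∀ w : W, a • w = b • w → (b⁻¹ * a) • w = w := fun w e => by
        rw [mul_smul, e, inv_smul_smul]
      exact (inv_mul_eq_one.1 (h1 (b⁻¹ * a) (k _ e.1) (k _ e.2.1) (k _ e.2.2))).symm
  rw [Nat.card_prod, Nat.card_prod] at h2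
  exact h2.trans (by ring_nf; rfl)

theorem card_le_of_comm {p : ℕ} [Fact p.Prime] [ElemAb p W] (A : Subgroup Γ) [IsMulCommutative A]
    (hA : (Nat.card A).Coprime p) : Nat.card A ≤ Nat.card W := by
  obtain ⟨v, -, hv⟩ := Set.exists_min_image Set.univ
    (fun v : W => Nat.card (A ⊓ MulAction.stabilizer Γ v : Subgroup Γ)) Set.finite_univ
    ⟨1, trivial⟩
  have hi : ∀ a : A, ∀ x ∈ fxs W ((A ⊓ MulAction.stabilizer Γ v : Subgroup Γ) : Set Γ),
      MulDistribMulAction.toMulAut A W a x ∈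
        fxs W ((A ⊓ MulAction.stabilizer Γ v : Subgroup Γ) : Set Γ) :=
    fun a x hx g hg => smul_comm_fx (setLike_mul_comm hg.1 a.2) (hx g hg)
  obtain ⟨K, hK, hKi⟩ := ElemAb.exists_invariant_isCompl p hA _ _ hi
  have hK0 : K = ⊥ := eq_bot_iff.2 fun w hw => by
    have hv1 : v ∈ fxs W ((A ⊓ MulAction.stabilizer Γ v : Subgroup Γ) : Set Γ) :=
      fun g hg => hg.2
    have h1 : ∀ a ∈ A, a • (v * w) = v * w → a • v = v ∧ a • w = w := fun a ha e => by
      rw [smul_mul'] at e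
      have h2 : v⁻¹ * a • v = w * (a • w)⁻¹ := by
        rw [inv_mul_eq_iff_eq_mul, ← mul_assoc, ← e, mul_inv_cancel_right]
      have h3 : v⁻¹ * a • v = 1 := disjoint_def.1 hK.disjoint
        (mul_mem (inv_mem hv1) (hi ⟨a, ha⟩ v hv1))
        (h2 ▸ mul_mem hw (inv_mem (hKi ⟨a, ha⟩ w hw)))
      rw [h3] at h2
      exact ⟨(inv_mul_eq_one.1 h3).symm, (mul_inv_eq_one.1 h2.symm).symm⟩
    have h4 := eq_of_le_of_card_ge (H := A ⊓ MulAction.stabilizer Γ (v * w))
      (K := A ⊓ MulAction.stabilizer Γ v) (fun a ha => ⟨ha.1, (h1 a ha.1 ha.2).1⟩) (hv _ trivial)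
    exact disjoint_def.1 hK.disjoint (fun g hg => (h1 g hg.1 (h4.ge hg).2).2) hw
  have h5 := hK.sup_eq_top
  rw [hK0, sup_bot_eq] at h5
  refine Nat.card_le_card_of_injective (fun a : A => (a : Γ) • v) fun a b e => ?_
  have h6 := eq_one_of_top h5 (g := (b : Γ)⁻¹ * a) ⟨A.mul_mem (A.inv_mem b.2) a.2, by
    change ((b : Γ)⁻¹ * a) • v = v
    rw [mul_smul, show (a : Γ) • v = (b : Γ) • v from e, inv_smul_smul]⟩
  exact Subtype.ext (inv_mul_eq_one.1 h6).symm

theorem IrrA.exists_prime (h : IrrA Γ W) (r : ℕ) [hr : Fact r.Prime] (h0 : pCore r Γ ≠ ⊥)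
    (h1 : ¬ r ^ 2 ∣ Nat.card Γ) :
    ∃ x : Γ, orderOf x = r ∧ fxs W {x} = ⊥ ∧ (centralizer ({x} : Set Γ)).index ∣ r - 1 := by
  obtain ⟨k, hk⟩ := IsPGroup.iff_card.1 (pCore_isPGroup r Γ)
  have k0 : k ≠ 0 := fun e => h0 (card_eq_one.1 (by rw [hk, e, pow_zero]))
  have k2 : k < 2 := lt_of_not_ge fun e =>
    h1 ((pow_dvd_pow r e).trans (hk ▸ (pCore r Γ).card_subgroup_dvd_card))
  obtain rfl : k = 1 := by omega
  rw [pow_one] at hk
  have hc := isCyclic_of_prime_card hk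
  obtain ⟨x, hx⟩ := (Subgroup.isCyclic_iff_exists_zpowers_eq_top _).1 hc
  refine ⟨x, by rw [← Nat.card_zpowers, hx, hk], eq_bot_iff.2 fun w hw => ?_, ?_⟩
  · exact (h.fxs_eq_bot _ h0).le fun g hg =>
      (zpowers_le (H := MulAction.stabilizer Γ w)).2 (mem_fxs1.1 hw) (hx.ge hg)
  · have h2 := Cfsg.Agent.S0992.relIndex_centralizer_dvd_card_mulAut (pCore r Γ)
    rw [normalizer_eq_top, relIndex_top_right, IsCyclic.card_mulAut, hk, Nat.totient_prime hr.out,
      ← hx, zpowers_eq_closure, centralizer_closure] at h2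
    exact h2

omit hfa in
theorem cent_modEq {x : Γ} {r : ℕ} (hr : r.Prime) (hx : orderOf x = r) (h0 : fxs W {x} = ⊥)
    {S : Set Γ} (hS : ∀ c ∈ S, c * x = x * c) : 1 ≡ Nat.card (fxs W S) [MOD r] := by
  have := prime_modEq hr hx (fxs W S) fun w hw g hg => smul_comm_fx (hS g hg) (hw g hg)
  rwa [h0, inf_bot_eq, card_bot] at this

omit hfa in
theorem card_dvd_of_three (hs : Group.IsSolvable Γ)
    (h : ∀ (r : ℕ) [Fact r.Prime], r ≠ 3 → pCore r Γ = ⊥) :
    centralizer (pCore 3 Γ : Set Γ) ≤ pCore 3 Γ ∧ ∃ n r, r ≤ n ∧ Nat.card (pCore 3 Γ) = 3 ^ n ∧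
      (r = n → ElemAb 3 (pCore 3 Γ)) ∧
      (pCore 3 Γ).index ∣ 3 ^ (r * (n - r)) * ∏ i ∈ Finset.range r, (3 ^ r - 3 ^ i) := by
  have := Fact.mk Nat.prime_three
  have e : fittingSubgroup Γ = pCore 3 Γ := le_antisymm (fitting_le_of_forall_pCore_le fun r _ => by
    by_cases h1 : r = 3
    · subst h1; exact le_rfl
    · rw [h r h1]; exact bot_le) (pCore_le_fitting 3 Γ)
  have hc : centralizer (pCore 3 Γ : Set Γ) ≤ pCore 3 Γ := e ▸ centralizer_fitting_le Γ
  obtain ⟨n, hn⟩ := IsPGroup.iff_card.1 (pCore_isPGroup 3 Γ)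
  obtain ⟨r, h1, hr⟩ := (Nat.dvd_prime_pow Nat.prime_three).1
    (hn ▸ (frattini (pCore 3 Γ)).index_dvd_card)
  refine ⟨hc, n, r, h1, hn, fun e => ?_, (index_dvd_of_le hc).trans (Dvd.dvd.trans ?_
    (Cfsg.Agent.S4208.result hn hr))⟩
  · have h2 : frattini (pCore 3 Γ) = ⊥ := by
      have := (frattini (pCore 3 Γ)).card_mul_index
      rw [hr, hn, e] at this
      exact card_eq_one.1 (Nat.eq_of_mul_eq_mul_right (Nat.pow_pos Nat.prime_three.pos) (by rw [this, one_mul]))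
    have := elemAb_quotient_frattini (pCore_isPGroup 3 Γ)
    exact ElemAb.of_injective (QuotientGroup.mk' (frattini (pCore 3 Γ)))
      ((MonoidHom.ker_eq_bot_iff _).1 (by rw [QuotientGroup.ker_mk', h2]))
  · have h2 := Cfsg.Agent.S0992.relIndex_centralizer_dvd_card_mulAut (pCore 3 Γ)
    rwa [normalizer_eq_top, relIndex_top_right] at h2

theorem dvd_of_three {n a k u w : ℕ} (h1 : n ∣ 3 ^ a * u) (h2 : n ∣ 3 ^ k * w) (hu : ¬ 3 ∣ u)
    (h0 : n ≠ 0) : n ∣ 3 ^ a * Nat.gcd u w := by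
  obtain ⟨j, m, hm, rfl⟩ := Nat.exists_eq_pow_mul_and_not_dvd h0 3 (by decide)
  have c : ∀ i, m.Coprime (3 ^ i) := fun i =>
    ((Nat.Prime.coprime_iff_not_dvd Nat.prime_three).2 hm).symm.pow_right i
  exact Nat.mul_dvd_mul
    ((((Nat.Prime.coprime_iff_not_dvd Nat.prime_three).2 hu).pow_left j).dvd_of_dvd_mul_right
      ((Dvd.intro _ rfl).trans h1))
    (Nat.dvd_gcd ((c a).dvd_of_dvd_mul_left ((Dvd.intro_left _ rfl).trans h1))
      ((c k).dvd_of_dvd_mul_left ((Dvd.intro_left _ rfl).trans h2)))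

end Cfsg.Lib.KR
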