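import Cfsg.Agent.KR.Sp
import Cfsg.Agent.Char.Primitive
import Cfsg.Agent.Class.AltBasis
import Cfsg.Agent.S0043

/-! The quasi-primitive step of the class number bound for solvable linear groups. -/

set_option autoImplicit false

namespace Cfsg.Lib.KR

open Subgroup Cfsg.Lib.Solv Cfsg.Lib.Char Module
open scoped commutatorElement

section Form

variable {G : Type*} [Group G] [Finite G] {p : ℕ} [hp : Fact p.Prime]

theorem exists_log (hc : IsCyclic (center G)) : ∃ ℓ : G → ZMod p,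
    (∀ z ∈ center G, z ^ p = 1 → ∀ y ∈ center G, y ^ p = 1 → ℓ (z * y) = ℓ z + ℓ y) ∧
      ∀ z ∈ center G, z ^ p = 1 → ∀ y ∈ center G, y ^ p = 1 → ℓ z = ℓ y → z = y := by
  let Ω : Subgroup G :=
    { carrier := {z | z ∈ center G ∧ z ^ p = 1}
      one_mem' := ⟨one_mem _, one_pow _⟩
      mul_mem' := fun {a b} ha hb => ⟨mul_mem ha.1 hb.1, by
        rw [(show Commute a b from mem_center_iff.1 hb.1 a).mul_pow, ha.2, hb.2, one_mul]⟩
      inv_mem' := fun ha => ⟨inv_mem ha.1, by rw [inv_pow, ha.2, inv_one]⟩ }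
  have : ElemAb p Ω := ⟨fun a b => Subtype.ext (mem_center_iff.1 b.2.1 a), fun a => Subtype.ext a.2.2⟩
  have h1 : Nat.card Ω ≤ p := (ElemAb.isCyclic_iff_card_le p).1
    (isCyclic_of_le (H' := center G) fun _ h => h.1)
  rw [Vec.card_eq_pow_finrank p Ω] at h1
  obtain ⟨f, hf⟩ := (finrank_le_iff_exists_linearMap (R := ZMod p) (M := Vec p Ω) (M' := ZMod p)).1 (by
    rw [finrank_self]
    exact (Nat.pow_le_pow_iff_right hp.out.one_lt).1 (by rwa [pow_one]))
  have e : ∀ z (h : z ∈ Ω), Function.extend (Subtype.val : Ω → G) (fun x => f (Vec.ofMul p x)) 0 z =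
      f (Vec.ofMul p ⟨z, h⟩) := fun z h => Subtype.val_injective.extend_apply _ _ (⟨z, h⟩ : Ω)
  refine ⟨Function.extend (Subtype.val : Ω → G) (fun x => f (Vec.ofMul p x)) 0,
    fun z a b y c d => ?_, fun z a b y c d h => ?_⟩
  · rw [e z ⟨a, b⟩, e y ⟨c, d⟩, e _ (Ω.mul_mem ⟨a, b⟩ ⟨c, d⟩), ← map_add, ← Vec.ofMul_mul]; rfl
  · rw [e z ⟨a, b⟩, e y ⟨c, d⟩] at h
    exact congrArg Subtype.val ((Vec.ofMul p).injective (hf h))

omit [Finite G] hp in
theorem cm_left {x y g : G} (h : ⁅y, g⁆ ∈ center G) : ⁅x * y, g⁆ = ⁅y, g⁆ * ⁅x, g⁆ := by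
  calc ⁅x * y, g⁆ = x * ⁅y, g⁆ * x⁻¹ * ⁅x, g⁆ := by simp only [commutatorElement_def]; group
    _ = _ := by rw [mem_center_iff.1 h x, mul_inv_cancel_right]

omit [Finite G] hp in
theorem cm_right {x g h : G} (k : ⁅x, h⁆ ∈ center G) : ⁅x, g * h⁆ = ⁅x, g⁆ * ⁅x, h⁆ := by
  calc ⁅x, g * h⁆ = ⁅x, g⁆ * (g * ⁅x, h⁆ * g⁻¹) := by simp only [commutatorElement_def]; group
    _ = _ := by rw [mem_center_iff.1 k g, mul_inv_cancel_right]

omit [Finite G] hp in
theorem cm_pow {x g : G} (h : ⁅x, g⁆ ∈ center G) (n : ℕ) : ⁅x ^ n, g⁆ = ⁅x, g⁆ ^ n := by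
  induction n with
  | zero => simp
  | succ n ih => rw [pow_succ, cm_left h, ih, pow_succ']

theorem qp_form (hc : IsCyclic (center G)) (W : Subgroup (G ⧸ center G)) [W.Normal] [ElemAb p W]
    (h0 : W ≠ ⊥) {E : Subgroup G} (hE : E = W.comap (QuotientGroup.mk' _))
    (nd : ∀ x ∈ E, x ∈ centralizer (E : Set G) → x ∈ center G) {φ : G →* MulAut W}
    (hφ : φ = (MulAut.conjNormal (H := W)).comp (QuotientGroup.mk' _)) :
    (∀ g, g ∈ φ.ker ↔ ∀ x ∈ E, ⁅x, g⁆ ∈ center G) ∧ E ≤ φ.ker ∧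
      φ.ker ≤ centralizer (E : Set G) ⊔ E ∧
      ∃ a, 1 ≤ a ∧ Nat.card W = p ^ (2 * a) ∧ Nat.card φ.range ∣ Class.spOrd p a := by
  obtain ⟨ℓ, l1, l2⟩ := exists_log (p := p) hc
  have mE : ∀ {x}, x ∈ E ↔ (x : G ⧸ center G) ∈ W := by rw [hE]; exact Iff.rfl
  let v : E → Vec p W := fun x => Vec.ofMul p ⟨x.1, mE.1 x.2⟩
  have sv : ∀ w : Vec p W, ∃ x, v x = w := fun w => by
    obtain ⟨x, hx⟩ := QuotientGroup.mk_surjective (Vec.toMul w).1
    exact ⟨⟨x, mE.2 (hx ▸ (Vec.toMul w).2)⟩, Vec.toMul.injective (Subtype.ext hx)⟩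
  have va : ∀ x y, v (x * y) = v x + v y := fun _ _ => rfl
  have ve : ∀ x y, v x = v y ↔ (x : G)⁻¹ * y ∈ center G := fun x y =>
    ((Vec.ofMul p).injective.eq_iff.trans Subtype.ext_iff).trans QuotientGroup.eq
  have nE : E.Normal := hE ▸ inferInstance
  have vφ : ∀ g x, Vec.autEquiv p W (φ g) (v x) = v (MulAut.conjNormal g x) := fun g x => by
    subst hφ; rfl
  have hD : ∀ g, g ∈ φ.ker ↔ ∀ x : E, ⁅x.1, g⁆ ∈ center G := fun g => by
    have k : ∀ x : E, v (MulAut.conjNormal g x) = v x ↔ ⁅x⁻¹.1, g⁆ ∈ center G := fun x => by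
      rw [eq_comm, ve, commutatorElement_def, coe_inv, inv_inv, MulAut.conjNormal_apply, mul_assoc,
        mul_assoc, mul_assoc]
    refine ⟨fun h x => ?_, fun h => (Vec.autEquiv p W).injective (LinearEquiv.ext fun w => ?_)⟩
    · have := (k x⁻¹).1 (by rw [← vφ, MonoidHom.mem_ker.1 h, map_one]; rfl)
      rwa [inv_inv] at this
    · obtain ⟨x, rfl⟩ := sv w
      rw [vφ, (k x).2 (h _), map_one]; rfl
  have ED : ∀ y : E, y.1 ∈ φ.ker := fun y => (hD y).2 fun x => by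
    have := (ve (y⁻¹ * x⁻¹) (x⁻¹ * y⁻¹)).1 (add_comm (v y⁻¹) (v x⁻¹))
    rwa [coe_mul, coe_mul, coe_inv, coe_inv, mul_inv_rev, inv_inv, inv_inv, ← mul_assoc] at this
  have pw : ∀ g ∈ φ.ker, ∀ x : E, ⁅x.1, g⁆ ^ p = 1 := fun g hg x => by
    rw [← cm_pow ((hD g).1 hg x), commutatorElement_eq_one_iff_mul_comm]
    refine (mem_center_iff.1 ((QuotientGroup.eq_one_iff _).1 ?_) g).symm
    exact congrArg Subtype.val (ElemAb.pow_eq_one (p := p) (Vec.toMul (v x)))
  choose o e using id sv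
  have exL : ∀ g, ∃ L : Dual (ZMod p) (Vec p W), g ∈ φ.ker → ∀ x, L (v x) = ℓ ⁅x.1, g⁆ :=
    fun g => by
    by_cases hg : g ∈ φ.ker
    · have k : ∀ x, ⁅(o (v x)).1, g⁆ = ⁅x.1, g⁆ := fun x => by
        have h2 : ⁅(o (v x)).1⁻¹ * x, g⁆ = 1 := commutatorElement_eq_one_iff_mul_comm.2
          (mem_center_iff.1 ((ve _ _).1 (e (v x))) g).symm
        conv_rhs => rw [← mul_inv_cancel_left (o (v x)).1 x, cm_left (h2 ▸ one_mem _), h2, one_mul]
      refine ⟨(AddMonoidHom.mk' (fun w => ℓ ⁅(o w).1, g⁆) fun a b => ?_).toZModLinearMap p,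
        fun _ x => congrArg ℓ (k x)⟩
      conv_lhs => rw [← e a, ← e b, ← va, k, coe_mul, cm_left ((hD g).1 hg _)]
      rw [l1 _ ((hD g).1 hg _) (pw g hg _) _ ((hD g).1 hg _) (pw g hg _), add_comm]
    · exact ⟨0, fun h => (hg h).elim⟩
  choose L hL using exL
  have inj : ∀ g ∈ φ.ker, ∀ h ∈ φ.ker, L g = L h → h⁻¹ * g ∈ centralizer (E : Set G) :=
    fun g hg h hh e x hx => by
    have : ⁅x⁻¹, g⁆ = ⁅x⁻¹, h⁆ := l2 _ ((hD g).1 hg ⟨x, hx⟩⁻¹) (pw g hg ⟨x, hx⟩⁻¹) _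
      ((hD h).1 hh ⟨x, hx⟩⁻¹) (pw h hh ⟨x, hx⟩⁻¹) ((hL g hg _).symm.trans (e ▸ hL h hh _))
    calc x * (h⁻¹ * g) = h⁻¹ * x * ⁅x⁻¹, h⁆ * g := by simp only [commutatorElement_def]; group
      _ = h⁻¹ * g * x := by rw [← this]; simp only [commutatorElement_def]; group
  have La : ∀ g ∈ φ.ker, ∀ h ∈ φ.ker, L (g * h) = L g + L h := fun g hg h hh =>
    LinearMap.ext fun w => by
      obtain ⟨x, rfl⟩ := sv w
      rw [LinearMap.add_apply, hL _ (mul_mem hg hh), hL g hg, hL h hh, cm_right ((hD h).1 hh x),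
        l1 _ ((hD g).1 hg x) (pw g hg x) _ ((hD h).1 hh x) (pw h hh x)]
  obtain ⟨B, hB⟩ : ∃ B : LinearMap.BilinForm (ZMod p) (Vec p W), ∀ y, B (v y) = L y := by
    have k : ∀ y, L (o (v y)) = L y := fun y => LinearMap.ext fun w => by
      have h2 : ⁅(o w).1, (o (v y)).1⁻¹ * y⁆ = 1 :=
        commutatorElement_eq_one_iff_mul_comm.2 (mem_center_iff.1 ((ve _ _).1 (e (v y))) _)
      rw [← e w, hL _ (ED _), hL _ (ED y)]
      conv_rhs => rw [← mul_inv_cancel_left (o (v y)).1 y, cm_right (h2 ▸ one_mem _), h2, mul_one]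
    refine ⟨(AddMonoidHom.mk' (fun w => L (o w)) fun a b => ?_).toZModLinearMap p, k⟩
    conv_lhs => rw [← e a, ← e b, ← va, k, coe_mul, La _ (ED _) _ (ED _)]
  have l0 : ℓ 1 = 0 := by
    have := l1 1 (one_mem _) (one_pow _) 1 (one_mem _) (one_pow _)
    rwa [one_mul, left_eq_add] at this
  have hA : B.IsAlt := fun w => by
    obtain ⟨x, rfl⟩ := sv w
    rw [hB, hL x (ED x), commutatorElement_self, l0]
  have hN : B.Nondegenerate := hA.isRefl.nondegenerate_iff_separatingLeft.2 fun w hw => by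
    obtain ⟨y, rfl⟩ := sv w
    have := inj y (ED y) _ (ED 1) (by
      rw [← hB y, ← hB 1, show B (v y) = 0 from LinearMap.ext hw]
      exact (map_zero B).symm)
    rw [coe_one, inv_one, one_mul] at this
    exact ((ve 1 y).2 (by rw [coe_one, inv_one, one_mul]; exact nd y y.2 this)).symm
  obtain ⟨a, ha⟩ := Class.even_finrank_of_isAlt hN hA
  rw [← two_mul] at ha
  have cW := Vec.card_eq_pow_finrank p W
  rw [ha] at cW
  refine ⟨fun g => (hD g).trans Subtype.forall, fun y hy => ED ⟨y, hy⟩, fun g hg => ?_, a,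
    Nat.one_le_iff_ne_zero.2 fun e => h0 ?_, cW, ?_⟩
  · obtain ⟨u, hu⟩ := (B.toDual hN).surjective (L g)
    obtain ⟨y, rfl⟩ := sv u
    rw [← mul_inv_cancel_left y.1 g]
    exact mul_mem (mem_sup_right y.2) (mem_sup_left (inj g hg y (ED y) (hu.symm.trans (hB y))))
  · exact card_eq_one.1 (by rw [cW, e]; rfl)
  · have := Class.card_SpB hN hA ha
    rw [ZMod.card] at this
    rw [← this]
    refine card_dvd_of_injective (((Vec.autEquiv p W).toMonoidHom.comp φ.range.subtype).codRestrict _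
      ?_) fun a b e => Subtype.ext ((Vec.autEquiv p W).injective (congrArg Subtype.val e))
    rintro ⟨_, g, rfl⟩ u w
    obtain ⟨y, rfl⟩ := sv u
    obtain ⟨x, rfl⟩ := sv w
    change B (Vec.autEquiv p W (φ g) _) (Vec.autEquiv p W (φ g) _) = B _ _
    rw [vφ, vφ, hB, hB, hL _ (ED _), hL _ (ED _), MulAut.conjNormal_apply, MulAut.conjNormal_apply,
      ← conjugate_commutatorElement, mem_center_iff.1 ((hD y).1 (ED y) x) g, mul_inv_cancel_right]

end Form

theorem sum_normSq_res {G : Type*} [Group G] [Fintype G] {χ : G → ℂ} {N : Subgroup G} {θ : N → ℂ}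
    [DecidablePred (· ∈ N)] {k : ℕ} (hθ : IsIrrCharacter N θ) (e : (fun m : N => χ m) = (k : ℂ) • θ) :
    ∑ g with g ∈ N, ‖χ g‖ ^ 2 = k ^ 2 * Nat.card N := by
  have h1 := index_mul_classInner_self_re (⊥ : Subgroup N) θ
  rw [hθ.classInner_self, index_bot, card_bot] at h1
  rw [Finset.sum_subtype _ (p := (· ∈ N)) (by simp)]
  simp only [Complex.one_re, mul_one, Nat.cast_one, inv_one, one_mul] at h1
  rw [h1, Finset.mul_sum]
  exact Finset.sum_congr rfl fun x _ => by rw [congrFun e x]; simp [mul_pow]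

theorem kb_qp {G : Type} [Group G] [Fintype G] (hs : Group.IsSolvable G) {χ : G → ℂ}
    (hχ : IsIrrCharacter G χ) (hq : Lib.Char.IsRelQuasiPrimitive ⊥ χ) (hf : Lib.Char.charKer χ = ⊥)
    {n : ℕ} (hn : χ 1 = n)
    (ih : ∀ (C : Subgroup G) [Fintype C] (φ : C → ℂ) (m : ℕ), IsIrrCharacter C φ →
      Lib.Char.charKer φ = ⊥ → φ 1 = m → m < n → ∀ [(fittingSubgroup C).Normal],
        KB (C ⧸ fittingSubgroup C) (3 ^ (m - 1)))
    [(fittingSubgroup G).Normal] : KB (G ⧸ fittingSubgroup G) (3 ^ (n - 1)) := by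
  classical
  by_cases hZ : center G = ⊤
  · refine KB.of_card ?_
    rw [← index_eq_card, top_le_iff.1 (hZ.ge.trans (center_le_fitting G)), index_top]
    exact Nat.one_le_pow _ _ three_pos
  have zc := hχ.charCenter_eq_center_of_faithful hf
  obtain ⟨W, nW, h0, -, hmin⟩ := exists_minimal_normal_le (⊤ : Subgroup (G ⧸ center G)) fun e =>
    hZ (top_le_iff.1 fun x _ => (QuotientGroup.eq_one_iff x).1 (e.le (mem_top _)))
  obtain ⟨_, p, hp, hW⟩ := Cfsg.Agent.S0043.result W h0 hmin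
  have := Fact.mk hp
  have := ElemAb.of_subgroup hW
  obtain ⟨E, hE⟩ : ∃ E, E = W.comap (QuotientGroup.mk' _) := ⟨_, rfl⟩
  have nE : E.Normal := hE ▸ inferInstance
  have mE : E.map (QuotientGroup.mk' _) = W :=
    hE ▸ map_comap_eq_self_of_surjective (QuotientGroup.mk'_surjective _) W
  have nd : E ⊓ centralizer E ≤ center G := zc ▸ hq.le_charCenter hχ.isCharacter bot_le
    (commutator_le.2 fun x hx y hy => by
      rw [commutatorElement_eq_one_iff_mul_comm.2 (hy.2 x hx.1)]; exact one_mem _)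
  obtain ⟨φ, hφ⟩ : ∃ φ, φ = (MulAut.conjNormal (H := W)).comp (QuotientGroup.mk' _) := ⟨_, rfl⟩
  obtain ⟨hD, ED, DC, a, ha, cW, dv⟩ := qp_form (p := p) (hχ.isCyclic_center_of_faithful hf) W h0 hE
    (fun x h1 h2 => nd ⟨h1, h2⟩) hφ
  have irr : IrrA φ.range W := fun U hU => by
    refine (hmin (U.map W.subtype) ⟨?_⟩ (map_subtype_le U)).imp
      (map_eq_bot_iff_of_injective U W.subtype_injective).1 fun e =>
        map_injective W.subtype_injective (by rw [e, ← MonoidHom.range_eq_map, range_subtype])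
    rintro _ ⟨u, hu, rfl⟩ g
    obtain ⟨g, rfl⟩ := QuotientGroup.mk_surjective g
    exact ⟨_, hU ⟨_, g, rfl⟩ u hu, by rw [hφ]; rfl⟩
  have k2 : KB (G ⧸ φ.ker) (3 ^ (p ^ a - 1)) :=
    (irr.kb_sp (Group.isSolvable_of_surjective φ.rangeRestrict_surjective) ha cW dv).quot_ker
      φ.rangeRestrict φ.ker_rangeRestrict.le
  set C := centralizer (E : Set G)
  have CD : C ≤ φ.ker := fun g hg => (hD g).2 fun x hx => by
    rw [commutatorElement_eq_one_iff_mul_comm.2 (hg x hx)]; exact one_mem _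
  obtain ⟨θ, k, hθ, ek⟩ := hq C inferInstance bot_le
  obtain ⟨ψ, j, hψ, ej⟩ := hq φ.ker inferInstance bot_le
  obtain ⟨m, m0, hm⟩ := hθ.exists_nat_degree_pos
  have n1 : n = k * m := by
    have : χ 1 = k * θ 1 := congrFun ek 1
    rw [hn, hm] at this
    exact_mod_cast this
  have j0 : 1 ≤ j := Nat.one_le_iff_ne_zero.2 fun e => hχ.apply_one_ne_zero (by
    simpa [e] using congrFun ej 1)
  have s1 : (k : ℝ) ^ 2 * Nat.card C = j ^ 2 * Nat.card φ.ker := by
    rw [← sum_normSq_res hθ ek, ← sum_normSq_res hψ ej]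
    refine Finset.sum_subset (fun g hg => ?_) fun g h1 h2 => ?_
    · simp only [Finset.mem_filter, Finset.mem_univ, true_and] at hg ⊢; exact CD hg
    · simp only [Finset.mem_filter, Finset.mem_univ, true_and] at h1 h2
      obtain ⟨x, hx, e⟩ : ∃ x ∈ E, x * g ≠ g * x := by
        by_contra e
        push Not at e
        exact h2 e
      rw [hχ.isClassFunction.apply_eq_zero_of_commutator (zc ▸ (hD g).1 h1 x hx)
        (hf ▸ fun e' => e (commutatorElement_eq_one_iff_mul_comm.1 e'))]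
      simp
  have s2 : (p ^ a) ^ 2 ≤ C.relIndex φ.ker := by
    refine le_trans ?_ (relIndex_le_of_le_right ED index_ne_zero_of_finite)
    rw [← pow_mul, mul_comm, ← cW, ← mE, ← relIndex_ker, QuotientGroup.ker_mk', ← inf_relIndex_right C]
    exact relIndex_le_of_le_left (inf_comm C E ▸ nd) index_ne_zero_of_finite
  have s3 : p ^ a ≤ k := by
    have e1 : k ^ 2 * Nat.card C = j ^ 2 * Nat.card φ.ker := by exact_mod_cast s1
    rw [← relIndex_bot_left φ.ker, ← relIndex_mul_relIndex ⊥ C φ.ker bot_le CD, relIndex_bot_left,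
      mul_comm (Nat.card C), ← mul_assoc] at e1
    rw [← Nat.pow_le_pow_iff_left two_ne_zero, Nat.eq_of_mul_eq_mul_right Nat.card_pos e1]
    exact s2.trans (Nat.le_mul_of_pos_left _ (pow_pos j0 2))
  have e2 : 2 ≤ p ^ a := hp.two_le.trans (Nat.le_self_pow (by omega) p)
  have k0 : (k : ℂ) ≠ 0 := Nat.cast_ne_zero.2 (by omega)
  have k1 := ih C θ m hθ (by
    rw [← charKer_smul k0, ← ek, hχ.isCharacter.charKer_res, hf, bot_subgroupOf]) hm (by nlinarith)
  have EF : E ≤ fittingSubgroup G := le_fitting nE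
    (isNilpotent_of_map_mk'_of_le_centralizer (A := center G)
      (fun x _ y hy => (mem_center_iff.1 hy x).symm) (mE ▸ isNilpotent_of_isMulCommutative W))
  refine (k1.step (map_le_iff_le_comap.1 (map_fitting_le_of_normal C)) k2
    (DC.trans (sup_le_sup_left EF C))).mono ?_
  rw [← pow_add]
  refine Nat.pow_le_pow_right three_pos ?_
  obtain ⟨m, rfl⟩ := Nat.exists_eq_add_of_le' m0
  obtain ⟨k, rfl⟩ := Nat.exists_eq_add_of_le' (show 1 ≤ k by omega)
  have : n = m + k + k * m + 1 := by rw [n1]; ring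
  omega

end Cfsg.Lib.KR
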