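import Cfsg.Agent.KR.Irr
import Cfsg.Agent.Class.SpOrder

/-! Class numbers of solvable irreducible groups whose order divides that of a symplectic group. -/

set_option autoImplicit false
set_option linter.unusedSectionVars false

namespace Cfsg.Lib.KR

open Subgroup Cfsg.Lib.Solv

variable {Γ W : Type*} [Group Γ] [Group W] [Finite Γ] [Finite W] [MulDistribMulAction Γ W]
  [FaithfulSMul Γ W]

namespace Sp

theorem dvd_of_pCore (h : IrrA Γ W) (r : ℕ) [Fact r.Prime] (h0 : pCore r Γ ≠ ⊥) :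
    r ∣ Nat.card W - 1 :=
  (Nat.modEq_iff_dvd' Nat.card_pos).1 (h.modEq_of_pCore r h0).symm

theorem dvd_card_pCore (r : ℕ) [Fact r.Prime] (h0 : pCore r Γ ≠ ⊥) : r ∣ Nat.card (pCore r Γ) := by
  obtain ⟨k, hk⟩ := IsPGroup.iff_card.1 (pCore_isPGroup r Γ)
  exact hk ▸ dvd_pow_self r fun e => h0 (card_eq_one.1 (by rw [hk, e, pow_zero]))

theorem zpowers_eq {r : ℕ} [hr : Fact r.Prime] (h0 : pCore r Γ ≠ ⊥) (h1 : ¬ r ^ 2 ∣ Nat.card Γ)
    {y : Γ} (hy : orderOf y = r) : zpowers y = pCore r Γ := by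
  have h2 : Nat.card (zpowers y) = r := by rw [Nat.card_zpowers, hy]
  have h3 : IsPGroup r ↥(zpowers y ⊔ pCore r Γ) :=
    (IsPGroup.of_card (n := 1) (by rw [h2, pow_one])).to_sup_of_normal_right (pCore_isPGroup r Γ)
  obtain ⟨k, hk⟩ := IsPGroup.iff_card.1 h3
  have k2 : k ≤ 1 := Nat.le_of_lt_succ (lt_of_not_ge fun e =>
    h1 ((pow_dvd_pow r e).trans (hk ▸ card_subgroup_dvd_card _)))
  have h4 : Nat.card ↥(zpowers y ⊔ pCore r Γ) ≤ r := by
    rw [hk]; exact (Nat.pow_le_pow_right hr.out.pos k2).trans (pow_one r).le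
  rw [eq_of_le_of_card_ge (le_sup_left : zpowers y ≤ zpowers y ⊔ pCore r Γ) (h2.symm ▸ h4)]
  exact (eq_of_le_of_card_ge le_sup_right
    (h4.trans (Nat.le_of_dvd Nat.card_pos (dvd_card_pCore r h0)))).symm

theorem not_dvd {r : ℕ} [hr : Fact r.Prime] (h0 : pCore r Γ ≠ ⊥) (h1 : ¬ r ^ 2 ∣ Nat.card Γ)
    {x : Γ} (hx : orderOf x = r) {S : Subgroup Γ} (hS : x ∉ S) : ¬ r ∣ Nat.card S := fun hd => by
  obtain ⟨y, hy⟩ := exists_prime_orderOf_dvd_card' r hd
  rw [← Subgroup.orderOf_coe] at hy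
  refine hS (zpowers_le.2 y.2 ?_)
  rw [zpowers_eq h0 h1 hy, ← zpowers_eq h0 h1 hx]
  exact mem_zpowers x

theorem card_fx {p n : ℕ} (hp : p.Prime) (hW : Nat.card W = p ^ n) {c : Γ} (hc : c ≠ 1) :
    ∃ j < n, Nat.card (fxs W {c}) = p ^ j := by
  obtain ⟨j, h1, h2⟩ := exists_card_pow hp hW (fxs W {c})
  refine ⟨j, lt_of_le_of_ne h1 fun e => hc ?_, h2⟩
  exact eq_one_of_top (eq_top_of_card_eq _ (by rw [h2, hW, e])) (Set.mem_singleton c)

theorem free {p n r : ℕ} (hp : p.Prime) (hW : Nat.card W = p ^ n) (hr : r.Prime) {x : Γ}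
    (hx : orderOf x = r) (h0 : fxs W {x} = ⊥) (hj : ∀ j < n, 1 ≡ p ^ j [MOD r] → j = 0) :
    Nat.card (centralizer ({x} : Set Γ)) ∣ Nat.card W - 1 := by
  rw [← ncard_compl_one]
  refine free_dvd _ _ (fun c _ w hw e => hw (smul_left_cancel c (e.trans (smul_one c).symm)))
    fun c hc w hw e => ?_
  by_contra c1
  obtain ⟨j, h1, h2⟩ := card_fx hp hW c1
  have h3 := cent_modEq hr hx h0 (S := {c}) fun g hg => hg ▸ mem_centralizer_singleton_iff.1 hc
  rw [h2] at h3
  rw [hj j h1 h3, pow_zero, card_eq_one] at h2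
  exact hw (h2.le (mem_fxs1.2 e))

theorem kb24 (hΓ : Nat.card Γ = 24) (h3 : pCore 3 Γ = ⊥) : KB Γ 9 := by
  have := Fact.mk Nat.prime_three
  obtain ⟨P⟩ : Nonempty (Sylow 3 Γ) := inferInstance
  have hP : Nat.card (P : Subgroup Γ) = 3 := by
    obtain ⟨k, hk⟩ := IsPGroup.iff_card.1 P.isPGroup'
    have a1 := (P : Subgroup Γ).card_mul_index
    have a2 := P.not_dvd_index
    rw [hk, hΓ] at a1
    rw [hk]
    rcases k with _ | _ | k
    · omega
    · rfl
    · rw [pow_succ, pow_succ] at a1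
      have : 9 ∣ 24 := ⟨3 ^ k * (P : Subgroup Γ).index, by rw [← a1]; ring⟩
      omega
  have hN : normalizer (P : Set Γ) ≠ ⊤ := fun e => by
    have := le_pCore (normalizer_eq_top_iff.1 e) P.isPGroup'
    rw [h3, le_bot_iff] at this
    rw [this, card_bot] at hP
    omega
  have h6 : Nat.card (normalizer (P : Set Γ)) ∣ 6 := by
    have a1 := card_sylow_modEq_one 3 Γ
    have a2 := P.card_dvd_index
    have a3 := (P : Subgroup Γ).card_mul_index
    have a4 := (normalizer (P : Set Γ)).card_mul_index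
    have a5 : (normalizer (P : Set Γ)).index ≠ 1 := fun e => hN (index_eq_one.1 e)
    rw [P.card_eq_index_normalizer] at a1 a2
    rw [hP, hΓ] at a3
    rw [show (P : Subgroup Γ).index = 8 by omega] at a2
    have a6 := Nat.le_of_dvd (by omega) a2
    rw [hΓ] at a4
    unfold Nat.ModEq at a1
    have a7 : (normalizer (P : Set Γ)).index = 4 := by
      generalize (normalizer (P : Set Γ)).index = m at *
      interval_cases m <;> omega
    rw [a7] at a4
    exact dvd_of_eq (by omega)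
  have hK : ¬ 3 ∣ Nat.card (normalizer (P : Set Γ)).normalCore := fun hd => by
    obtain ⟨y, hy⟩ := exists_prime_orderOf_dvd_card' 3 hd
    rw [← Subgroup.orderOf_coe] at hy
    have a1 : Nat.card (zpowers (y : Γ)) = 3 := by rw [Nat.card_zpowers, hy]
    have a2 := (IsPGroup.of_card (p := 3) (n := 1) a1).inf_normalizer_sylow P
    rw [inf_eq_left.2 (zpowers_le.2 (normalCore_le _ y.2))] at a2
    have a3 := eq_of_le_of_card_ge (a2.le.trans inf_le_right) (by omega)
    have a4 := P.normalizer_sup_eq_top' (a3.ge.trans (zpowers_le.2 y.2))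
    exact hN (by rwa [sup_eq_left.2 (normalCore_le _)] at a4)
  refine KB.of_cent (z := 2) (c := 8) ((normalizer (P : Set Γ)).normalCore : Set Γ) (one_mem _) ?_
    (fun g hg => ?_) (by omega)
  · have a1 := (card_dvd_of_le (normalCore_le (normalizer (P : Set Γ)))).trans h6
    have a2 := Nat.le_of_dvd (by omega) a1
    change Nat.card (normalizer (P : Set Γ)).normalCore ≤ 2
    generalize Nat.card (normalizer (P : Set Γ)).normalCore = m at *
    interval_cases m <;> omega
  · by_contra hlt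
    have a1 := (centralizer ({g} : Set Γ)).card_mul_index
    have a2 : ∀ y : Γ, y ^ 2 ∈ centralizer ({g} : Set Γ) := fun y => by
      have a3 : (centralizer ({g} : Set Γ)).index = 1 ∨ (centralizer ({g} : Set Γ)).index = 2 := by
        have : (centralizer ({g} : Set Γ)).index < 3 := by nlinarith
        have : (centralizer ({g} : Set Γ)).index ≠ 0 := index_ne_zero_of_finite
        omega
      rcases a3 with e | e
      · rw [index_eq_one.1 e]; trivial
      · exact sq_mem_of_index_two e y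
    refine hg fun b => centralizer_le_normalizer _ fun y hy => ?_
    have a3 : y ^ 3 = 1 := hP ▸ congrArg Subtype.val (pow_card_eq_one' (x := (⟨y, hy⟩ : P.1)))
    have a4 := pow_mem (a2 (b⁻¹ * y * b⁻¹⁻¹)) 2
    rw [← pow_mul, conj_pow, pow_succ, a3, one_mul, inv_inv, mem_centralizer_singleton_iff] at a4
    calc y * (b * g * b⁻¹) = b * (b⁻¹ * y * b * g) * b⁻¹ := by group
      _ = b * g * b⁻¹ * y := by rw [a4]; group

theorem kb_nine {F : Subgroup Γ} [F.Normal] [ElemAb 3 F] (h9 : Nat.card F = 9)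
    (hc : centralizer (F : Set Γ) ≤ F) (hi : F.index ∣ 2 ^ 4) : KB Γ 27 := fun H => by
  have := Fact.mk Nat.prime_three
  have := Fact.mk Nat.prime_two
  have i1 : F.relIndex (H ⊔ F) ∣ 2 ^ 4 := (relIndex_dvd_index_of_normal F _).trans hi
  have h1 := kk_le_of_nilpotent (p := 3) (F.subgroupOf (H ⊔ F))
    (fun v hv => Subtype.ext (congrArg (fun z : F => (z : Γ))
      (ElemAb.pow_eq_one (p := 3) (⟨v, hv⟩ : F))))
    (fun e => absurd (e.trans i1) (by decide))
    (le_antisymm (fun c hc' => hc fun y hy => congrArg Subtype.val (hc' ⟨y, mem_sup_right hy⟩ hy))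
      fun c hc' y hy => Subtype.ext
        (congrArg (fun z : F => (z : Γ)) (ElemAb.comm (p := 3) (⟨y, hy⟩ : F) ⟨c, hc'⟩)))
    (by
      obtain ⟨k, -, hk⟩ := (Nat.dvd_prime_pow Nat.prime_two).1 i1
      exact (IsPGroup.of_card (G := ↥(H ⊔ F) ⧸ F.subgroupOf (H ⊔ F)) hk).isNilpotent)
  have h2 : Nat.card (F.subgroupOf (H ⊔ F)) = 9 := by
    rw [Nat.card_congr (subgroupOfEquivOfLe le_sup_right).toEquiv, h9]
  have h3 := (Cfsg.Agent.S4200.result (H.subgroupOf (H ⊔ F))).1
  have h4 : kk H ≤ kk (H.subgroupOf (H ⊔ F)) :=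
    kk_le_of_surj (subgroupOfEquivOfLe (le_sup_left : H ≤ H ⊔ F)).toMonoidHom
      (subgroupOfEquivOfLe (le_sup_left : H ≤ H ⊔ F)).surjective
  have h5 := (F.subgroupOf (H ⊔ F)).card_mul_index
  have h6 := (H.subgroupOf (H ⊔ F)).card_mul_index
  have h7 := (F.subgroupOf H).card_mul_index
  rw [Nat.card_congr (subgroupOfEquivOfLe (le_sup_left : H ≤ H ⊔ F)).toEquiv] at h6
  change _ * F.relIndex (H ⊔ F) = _ at h5
  change _ * F.relIndex H = _ at h7
  rw [relIndex_sup_right] at i1 h5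
  have h8 := Nat.le_of_dvd (by omega) i1
  have h0 : 0 < F.relIndex H := Nat.pos_of_dvd_of_pos i1 (by omega)
  rw [h2] at h1 h5
  by_cases e : Nat.card (F.subgroupOf H) = 1
  · have := kk_le_card (X := H)
    rw [e] at h7
    omega
  · have a1 : 0 < Nat.card (F.subgroupOf H) := Nat.card_pos
    rw [← h7, ← h5, mul_right_comm] at h6
    have a2 := Nat.eq_of_mul_eq_mul_right h0 h6
    have a3 : (H.subgroupOf (H ⊔ F)).index ≤ 3 := by
      by_contra hlt
      have b1 : 2 ≤ Nat.card (F.subgroupOf H) := by omega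
      have : (H.subgroupOf (H ⊔ F)).index < 5 := by nlinarith
      rw [show (H.subgroupOf (H ⊔ F)).index = 4 by omega] at a2
      omega
    exact h4.trans (h3.trans (Nat.mul_le_mul a3 h1))

theorem kb4 (h : IrrA Γ W) (hs : Group.IsSolvable Γ) (hW : Nat.card W = 2 ^ 4)
    (hΓ : Nat.card Γ ∣ 720) : KB Γ 27 := by
  have := Fact.mk Nat.prime_five
  by_cases h5 : pCore 5 Γ = ⊥
  · obtain ⟨hc, n, r, h1, h2, h3, h4⟩ := card_dvd_of_three hs fun r hr h3 => by
      by_contra h0
      have a1 := dvd_of_pCore h r h0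
      rw [hW] at a1
      rcases (Nat.Prime.dvd_mul hr.out).1 (show r ∣ 3 * 5 from a1) with e | e
      · exact h3 ((Nat.prime_dvd_prime_iff_eq hr.out Nat.prime_three).1 e)
      · obtain rfl := (Nat.prime_dvd_prime_iff_eq hr.out Nat.prime_five).1 e
        exact h0 h5
    have a1 := (pCore 3 Γ).card_mul_index
    have a2 : n < 3 := lt_of_not_ge fun e => absurd
      (((pow_dvd_pow 3 e).trans (h2 ▸ card_subgroup_dvd_card _)).trans hΓ) (by decide)
    rw [h2] at a1
    by_cases e : r = 2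
    · subst e
      obtain rfl : n = 2 := by omega
      have := h3 rfl
      refine kb_nine h2 hc ?_
      have a3 : (pCore 3 Γ).index ∣ 80 :=
        Nat.dvd_of_mul_dvd_mul_left (show 0 < 3 ^ 2 by omega) (a1 ▸ hΓ)
      exact Nat.dvd_gcd a3 h4
    · have a3 : Nat.card Γ ∣ 54 := by
        rw [← a1]
        refine (Nat.mul_dvd_mul_left _ h4).trans ?_
        have : r < 2 := by omega
        interval_cases n <;> interval_cases r <;> decide
      exact KB.of_card ((Nat.le_of_dvd (by decide) (Nat.dvd_gcd a3 hΓ)).trans (by decide))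
  · have h25 : ¬ 5 ^ 2 ∣ Nat.card Γ := fun e => absurd (e.trans hΓ) (by decide)
    obtain ⟨x, h1, h2, h3⟩ := h.exists_prime 5 h5 h25
    have h4 := free Nat.prime_two hW Nat.prime_five h1 h2 (by decide)
    rw [hW] at h4
    have h6 : Nat.card Γ ∣ 5 * 12 := by
      rw [← (centralizer ({x} : Set Γ)).card_mul_index]
      exact (Nat.mul_dvd_mul h4 h3).trans (by decide)
    refine (KB.of_cent (z := 15) (c := 12) (centralizer ({x} : Set Γ) : Set Γ) (one_mem _)
      (Nat.le_of_dvd (by decide) h4) (fun g hg => ?_) (by decide)).mono (by decide)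
    have h7 := not_dvd h5 h25 h1 (S := centralizer ({g} : Set Γ)) fun e =>
      hg (mem_centralizer_singleton_iff.2 (mem_centralizer_singleton_iff.1 e).symm)
    exact Nat.le_of_dvd (by decide)
      (((Nat.Prime.coprime_iff_not_dvd Nat.prime_five).2 h7).symm.dvd_of_dvd_mul_left
        ((card_subgroup_dvd_card _).trans h6))

theorem le8 [ElemAb 2 W] (h : IrrA Γ W) (hs : Group.IsSolvable Γ) (hW : Nat.card W = 2 ^ 6)
    (hΓ : Nat.card Γ ∣ 3 ^ 4 * 17920) : Nat.card Γ ≤ 3072 := by
  have p7 : Nat.Prime 7 := by norm_num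
  have := Fact.mk p7
  have := Fact.mk Nat.prime_two
  by_cases h7 : pCore 7 Γ = ⊥
  · obtain ⟨hc, n, r, h1, h2, h3, h4⟩ := card_dvd_of_three hs fun r hr h3 => by
      by_contra h0
      have a1 := dvd_of_pCore h r h0
      rw [hW] at a1
      rcases (Nat.Prime.dvd_mul hr.out).1 (show r ∣ 3 ^ 2 * 7 from a1) with e | e
      · exact h3 ((Nat.prime_dvd_prime_iff_eq hr.out Nat.prime_three).1 (hr.out.dvd_of_dvd_pow e))
      · obtain rfl := (Nat.prime_dvd_prime_iff_eq hr.out p7).1 e
        exact h0 h7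
    have a1 := (pCore 3 Γ).card_mul_index
    have a2 : n < 5 := lt_of_not_ge fun e => absurd
      (((pow_dvd_pow 3 e).trans (h2 ▸ card_subgroup_dvd_card _)).trans hΓ) (by decide)
    have a3 : r < 4 := lt_of_not_ge fun e => by
      obtain rfl : n = 4 := by omega
      have := h3 (by omega)
      have := ElemAb.isMulCommutative 3 (pCore 3 Γ)
      have := card_le_of_comm (W := W) (p := 2) (pCore 3 Γ) (by rw [h2]; decide)
      omega
    have a4 : ∏ i ∈ Finset.range r, (3 ^ r - 3 ^ i) ∣ 3 ^ 3 * 416 := by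
      interval_cases r <;> decide
    have a5 : Nat.card Γ ∣ 3 ^ (n + r * (n - r) + 3) * 416 := by
      rw [← a1, h2, pow_add, pow_add, mul_assoc, mul_assoc]
      exact Nat.mul_dvd_mul_left _ (h4.trans (Nat.mul_dvd_mul_left _ a4))
    exact (Nat.le_of_dvd (by decide) (dvd_of_three hΓ a5 (by decide) Nat.card_pos.ne')).trans
      (by decide)
  · have h49 : ¬ 7 ^ 2 ∣ Nat.card Γ := fun e => absurd (e.trans hΓ) (by decide)
    obtain ⟨x, h1, h2, h3⟩ := h.exists_prime 7 h7 h49
    have : Nontrivial W := Finite.one_lt_card_iff_nontrivial.1 (by omega)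
    obtain ⟨v, hv⟩ := exists_ne (1 : W)
    set C := centralizer ({x} : Set Γ)
    let S : Subgroup Γ := (MulAction.stabilizer C v).map C.subtype
    have hS : ∀ c ∈ S, c * x = x * c ∧ c • v = v := by
      rintro _ ⟨c, hc, rfl⟩
      exact ⟨mem_centralizer_singleton_iff.1 c.2, hc⟩
    have h4 : Nat.card S ≤ 8 := by
      by_cases e : S = ⊥
      · rw [e, card_bot]; omega
      have a1 : 8 ≤ Nat.card (fxs W (S : Set Γ)) := by
        obtain ⟨j, b1, b2⟩ := exists_card_pow Nat.prime_two hW (fxs W (S : Set Γ))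
        have b3 := cent_modEq p7 h1 h2 (S := (S : Set Γ)) fun c hc => (hS c hc).1
        have b4 : j ≠ 0 := fun e => hv ((card_eq_one.1 (by rw [b2, e, pow_zero])).le
          (show v ∈ fxs W (S : Set Γ) from fun c hc => (hS c hc).2))
        rw [b2] at b3 ⊢
        revert b3 b4
        interval_cases j <;> decide
      have a2 : ∀ c ∈ S, c ≠ 1 → fxs W (S : Set Γ) = fxs W {c} ∧ Nat.card (fxs W {c}) ≤ 8 := by
        intro c hc c1
        obtain ⟨j, b1, b2⟩ := card_fx Nat.prime_two hW c1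
        have b3 := cent_modEq p7 h1 h2 (S := {c}) fun g hg => hg ▸ (hS c hc).1
        have b4 : Nat.card (fxs W {c}) ≤ 8 := by
          rw [b2] at b3 ⊢
          revert b3
          interval_cases j <;> decide
        exact ⟨eq_of_le_of_card_ge (fun w hw => mem_fxs1.2 (hw c hc)) (by omega), b4⟩
      have a3 := free_dvd S ((fxs W (S : Set Γ) : Set W)ᶜ) (fun c hc w hw e => hw (by
        have b1 := e c⁻¹ (inv_mem hc)
        rw [inv_smul_smul] at b1
        rw [b1]; exact e)) fun c hc w hw e => by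
          by_contra c1
          exact hw ((a2 c hc c1).1.ge (mem_fxs1.2 e))
      obtain ⟨⟨c, hc⟩, c1⟩ := ne_bot_iff_exists_ne_one.1 e
      have a4 := a2 c hc fun e => c1 (Subtype.ext e)
      have a5 := Set.ncard_add_ncard_compl (fxs W (S : Set Γ) : Set W)
      have a6 : (fxs W (S : Set Γ) : Set W).ncard = 8 :=
        le_antisymm (by rw [a4.1]; exact a4.2) a1
      rw [show ((fxs W (S : Set Γ) : Set W)ᶜ).ncard = 7 * 8 by omega] at a3
      have a7 := not_dvd h7 h49 h1 (S := S) fun e => hv (h2.le (mem_fxs1.2 (hS x e).2))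
      exact Nat.le_of_dvd (by decide)
        (((Nat.Prime.coprime_iff_not_dvd p7).2 a7).symm.dvd_of_dvd_mul_left a3)
    rw [card_map_of_injective C.subtype_injective] at h4
    have h5 : (MulAction.stabilizer C v).index ≤ 64 := by
      rw [MulAction.index_stabilizer]
      exact (Set.ncard_le_card _).trans hW.le
    have h6 := Nat.le_of_dvd (by decide) h3
    rw [← C.card_mul_index, ← (MulAction.stabilizer C v).card_mul_index]
    exact Nat.mul_le_mul (Nat.mul_le_mul h4 h5) h6

theorem le9 (hs : Group.IsSolvable Γ) (hW : Nat.card W = 3 ^ 4)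
    (hΓ : Nat.card Γ ∣ 5 * 10368) : Nat.card Γ ≤ 10368 := by
  have := Fact.mk Nat.prime_five
  have := Fact.mk Nat.prime_three
  by_cases h5 : 5 ∣ Nat.card Γ
  swap
  · exact Nat.le_of_dvd (by decide)
      (((Nat.Prime.coprime_iff_not_dvd Nat.prime_five).2 h5).symm.dvd_of_dvd_mul_left hΓ)
  obtain ⟨R, r1, r2⟩ := (hallD_of_isSolvable ({3, 5} : Set ℕ) Γ).exists_isPiHall
  have a1 : 5 ∣ Nat.card R := ((Nat.Prime.dvd_mul Nat.prime_five).1
    (R.card_mul_index ▸ h5)).resolve_right (r2 5 Nat.prime_five (by simp))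
  obtain ⟨x, hx⟩ := exists_prime_orderOf_dvd_card' 5 a1
  have a2 : fxs W {x} = ⊥ := by
    obtain ⟨j, b1, b2⟩ := card_fx (W := W) (c := x) Nat.prime_three hW fun e => by
      rw [e, orderOf_one] at hx; omega
    have b3 := prime_modEq Nat.prime_five hx (⊤ : Subgroup W) fun _ _ => mem_top _
    rw [top_inf_eq, card_top, hW, b2] at b3
    rw [← card_eq_one, b2]
    revert b3
    interval_cases j <;> decide
  have hR : IrrA R W := fun U hU => by
    obtain ⟨j, b1, b2⟩ := exists_card_pow Nat.prime_three hW U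
    have b3 := prime_modEq Nat.prime_five hx U (hU x)
    rw [a2, inf_bot_eq, card_bot, b2] at b3
    have b4 : j = 0 ∨ j = 4 := by
      revert b3
      interval_cases j <;> decide
    rcases b4 with rfl | rfl
    · exact Or.inl (card_eq_one.1 b2)
    · exact Or.inr (eq_top_of_card_eq _ (b2.trans hW.symm))
  have a3 : pCore 5 R ≠ ⊥ := fun e => by
    have b1 := (card_dvd_of_three (Γ := R) inferInstance fun r hr h3 => by
      by_contra h0
      rcases r1 r hr.out ((dvd_card_pCore r h0).trans (card_subgroup_dvd_card _)) with b | b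
      · exact h3 b
      · obtain rfl : r = 5 := b
        exact h0 e).1
    have b2 : pCore 3 R = ⊥ := by
      by_contra h0
      exact absurd (hW ▸ dvd_of_pCore hR 3 h0) (by decide)
    rw [b2] at b1
    have b3 : x = 1 := b1 fun y hy => by rw [mem_bot.1 hy, one_mul, mul_one]
    rw [b3, orderOf_one] at hx
    omega
  obtain ⟨y, h1, h2, h3⟩ := hR.exists_prime 5 a3 fun e =>
    absurd ((e.trans (card_subgroup_dvd_card R)).trans hΓ) (by decide)
  have h4 := free Nat.prime_three hW Nat.prime_five h1 h2 (by decide)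
  rw [hW] at h4
  have h6 : Nat.card R ∣ 320 := by
    rw [← (centralizer ({y} : Set R)).card_mul_index]
    exact Nat.mul_dvd_mul h4 h3
  have h7 : ¬ 3 ∣ Nat.card Γ := fun e =>
    ((Nat.Prime.dvd_mul Nat.prime_three).1 (R.card_mul_index ▸ e)).elim
      (fun e => absurd (e.trans h6) (by decide)) (r2 3 Nat.prime_three (by simp))
  exact (Nat.le_of_dvd (by decide)
    ((((Nat.Prime.coprime_iff_not_dvd Nat.prime_three).2 h7).symm.pow_right 4).dvd_of_dvd_mul_left
      (show Nat.card Γ ∣ 3 ^ 4 * 640 from hΓ))).trans (by decide)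

theorem num5 (n : ℕ) : 5 * (n + 5) ^ 3 < 8 * 3 ^ (n + 4) := by
  induction n with
  | zero => decide
  | succ n ih =>
    have : (n + 1 + 5) ^ 3 ≤ 3 * (n + 5) ^ 3 := by nlinarith [Nat.zero_le (n ^ 3), Nat.zero_le (n ^ 2)]
    rw [show n + 1 + 4 = n + 4 + 1 by omega, pow_succ 3]
    omega

theorem num16 (n : ℕ) : 5 * (n + 16) ^ 6 < 8 * 3 ^ (n + 15) := by
  induction n with
  | zero => norm_num
  | succ n ih =>
    have h1 : (16 * (n + 1 + 16)) ^ 6 ≤ (17 * (n + 16)) ^ 6 := Nat.pow_le_pow_left (by omega) 6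
    rw [mul_pow, mul_pow] at h1
    rw [show n + 1 + 15 = n + 15 + 1 by omega, pow_succ 3]
    omega

end Sp

theorem IrrA.kb_sp {Γ W : Type*} [Group Γ] [Group W] [Finite Γ] [Finite W] [MulDistribMulAction Γ W]
    [FaithfulSMul Γ W] (h : IrrA Γ W) (hs : Group.IsSolvable Γ) {p a : ℕ} [Fact p.Prime]
    [ElemAb p W] (ha : 1 ≤ a) (hW : Nat.card W = p ^ (2 * a))
    (hΓ : Nat.card Γ ∣ Cfsg.Lib.Class.spOrd p a) : KB Γ (3 ^ (p ^ a - 1)) := by
  have hp : p.Prime := Fact.out
  have h2 := hp.two_le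
  have : Nontrivial W := Finite.one_lt_card_iff_nontrivial.1
    (hW ▸ Nat.one_lt_pow (by omega) hp.one_lt)
  by_cases h16 : 16 ≤ p ^ a
  · obtain ⟨n, hn⟩ : ∃ n, p ^ a = n + 16 := ⟨p ^ a - 16, by omega⟩
    have h1 := h.card_le_cube (p := p) hs
    have h3 := Sp.num16 n
    rw [pow_mul', hn] at hW
    rw [hW, ← pow_mul, show 2 * 3 = 6 by rfl] at h1
    have h4 : (n + 16) ^ 2 ≤ (n + 16) ^ 6 / 2 := by
      rw [Nat.le_div_iff_mul_le (by omega), show 6 = 2 + 4 by rfl, pow_add]
      exact Nat.mul_le_mul_left _ (le_trans (by decide) (Nat.pow_le_pow_left (Nat.le_add_left 16 n) 4))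
    rw [hn, show n + 16 - 1 = n + 15 by omega]
    exact h.kb (by omega) (by omega)
  by_cases h5 : 5 ≤ p
  · obtain rfl : a = 1 := by
      by_contra e
      have := (Nat.pow_le_pow_left h5 2).trans (Nat.pow_le_pow_right hp.pos (show 2 ≤ a by omega))
      omega
    obtain ⟨n, rfl⟩ : ∃ n, p = n + 5 := ⟨p - 5, by omega⟩
    have h1 := Sp.num5 n
    have h3 : Nat.card Γ ≤ (n + 5) ^ 3 := by
      have e : Cfsg.Lib.Class.spOrd (n + 5) 1 = (n + 5) * ((n + 5) ^ 2 - 1) := by
        simp [Cfsg.Lib.Class.spOrd]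
      rw [e] at hΓ
      have h4 : 5 ^ 2 ≤ (n + 5) ^ 2 := Nat.pow_le_pow_left h5 2
      refine (Nat.le_of_dvd (Nat.mul_pos (by omega) (by omega)) hΓ).trans ?_
      rw [pow_succ' _ 2]
      exact Nat.mul_le_mul_left _ (Nat.sub_le _ _)
    have h4 : 5 * (n + 5) ^ 2 ≤ (n + 5) ^ 3 := by
      rw [pow_succ' _ 2]; exact Nat.mul_le_mul_right _ h5
    rw [mul_one] at hW
    rw [pow_one, show n + 5 - 1 = n + 4 by omega]
    exact h.kb (by omega) (by omega)
  have h4 : a < 4 := lt_of_not_ge fun e =>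
    h16 ((Nat.pow_le_pow_left h2 4).trans (Nat.pow_le_pow_right hp.pos e))
  have h3 : p = 2 ∨ p = 3 := by
    have : p ≠ 4 := fun e => absurd (e ▸ hp) (by decide)
    omega
  rcases h3 with rfl | rfl
  · interval_cases a
    · have := Nat.le_of_dvd (by decide) hΓ
      exact h.kb hW.le (lt_of_le_of_lt (Nat.mul_le_mul_left 5 this) (by decide))
    · exact Sp.kb4 h hs hW hΓ
    · have := Sp.le8 h hs hW hΓ
      exact h.kb (by omega) (by omega)
  · interval_cases a
    · by_cases e : Nat.card Γ = 24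
      · refine Sp.kb24 e ?_
        by_contra h0
        exact absurd (hW ▸ Sp.dvd_of_pCore h 3 h0) (by decide)
      · have h6 : Nat.card Γ ∣ 24 := hΓ
        have h7 := Nat.le_of_dvd (by decide) h6
        refine h.kb (by omega) ?_
        generalize Nat.card Γ = m at *
        interval_cases m <;> omega
    · have := Sp.le9 (W := W) hs hW hΓ
      exact h.kb (by omega) (by omega)
    · omega

end Cfsg.Lib.KR
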